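import Cfsg.Agent.Lib.Perm.SquarePlusOne.Regular
import Cfsg.Agent.Lib.Perm.PrimeDegree

/-! The action of `G_a` on the classes: either `U` is normal in `G_a`, or the classes are permuted
affinely and the kernel part of `U` is not normal in the block kernel. -/

set_option autoImplicit false
set_option linter.unusedSectionVars false

namespace Cfsg.Agent.Perm.SquarePlusOne

open MulAction

section PrimeAct

variable {L α : Type*} [Group L] [MulAction L α] {p : ℕ}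

/-- Burnside's dichotomy for an action. -/
theorem prime_dichotomy [Fact p.Prime] [Finite α] [IsPretransitive L α] (hα : Nat.card α = p) :
    IsMultiplyPretransitive L α 2 ∨
      ∃ e : ZMod p ≃ α, ∀ g : L, ∃ a b : ZMod p, a ≠ 0 ∧ ∀ k, g • e k = e (a * k + b) := by
  let R := (MulAction.toPermHom L α).range
  have : IsPretransitive R α := ⟨fun x y => by
    obtain ⟨g, hg⟩ := exists_smul_eq L x y
    exact ⟨⟨_, g, rfl⟩, hg⟩⟩
  obtain ⟨e, t, -, ht⟩ := Cfsg.Agent.Perm.PrimeDegree.exists_coord hα R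
  rcases Cfsg.Agent.Perm.PrimeDegree.two_transitive_or_affine R e t ht with h | h
  · left
    rw [is_two_pretransitive_iff] at h ⊢
    intro a b c d hab hcd
    obtain ⟨⟨_, g, rfl⟩, h1, h2⟩ := h hab hcd
    exact ⟨g, h1, h2⟩
  · exact Or.inr ⟨e, fun g => h ⟨_, g, rfl⟩⟩

theorem aff_pow {e : ZMod p ≃ α} {g : L} {a b : ZMod p} (h : ∀ k, g • e k = e (a * k + b)) :
    ∀ n : ℕ, ∃ b' : ZMod p, ∀ k, g ^ n • e k = e (a ^ n * k + b') := by
  intro n
  induction n with
  | zero => exact ⟨0, fun k => by simp⟩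
  | succ n ih =>
    obtain ⟨b', hb'⟩ := ih
    exact ⟨a * b' + b, fun k => by rw [pow_succ', mul_smul, hb', h]; congr 1; ring⟩

theorem aff_pgroup [Fact p.Prime] {e : ZMod p ≃ α}
    (haff : ∀ g : L, ∃ a b : ZMod p, a ≠ 0 ∧ ∀ k, g • e k = e (a * k + b))
    {g : L} {n : ℕ} (hg : ∀ x : α, g ^ p ^ n • x = x) : ∃ c : ZMod p, ∀ k, g • e k = e (k + c) := by
  obtain ⟨a, b, -, h⟩ := haff g
  obtain ⟨b', hb'⟩ := aff_pow h (p ^ n)
  have h0 := e.injective ((hb' 0).symm.trans (hg (e 0)))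
  have h1 := e.injective ((hb' 1).symm.trans (hg (e 1)))
  rw [mul_zero, zero_add] at h0
  rw [mul_one, h0, add_zero, ZMod.pow_card_pow] at h1
  exact ⟨b, fun k => by rw [h, h1, one_mul]⟩

theorem aff_fix_two [Fact p.Prime] {e : ZMod p ≃ α}
    (haff : ∀ g : L, ∃ a b : ZMod p, a ≠ 0 ∧ ∀ k, g • e k = e (a * k + b))
    {g : L} {x y : α} (hxy : x ≠ y) (hx : g • x = x) (hy : g • y = y) : ∀ z : α, g • z = z := by
  obtain ⟨a, b, -, h⟩ := haff g
  obtain ⟨i, rfl⟩ := e.surjective x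
  obtain ⟨j, rfl⟩ := e.surjective y
  have h1 := e.injective ((h i).symm.trans hx)
  have h2 := e.injective ((h j).symm.trans hy)
  have ha : (a - 1) * (i - j) = 0 := by linear_combination h1 - h2
  rcases mul_eq_zero.1 ha with ha | ha
  · have ha1 : a = 1 := sub_eq_zero.1 ha
    rw [ha1, one_mul, add_eq_left] at h1
    intro z
    obtain ⟨k, rfl⟩ := e.surjective z
    rw [h, ha1, h1, one_mul, add_zero]
  · exact absurd (congrArg e (sub_eq_zero.1 ha)) hxy

theorem aff_comm_of_fix [Fact p.Prime] {e : ZMod p ≃ α}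
    (haff : ∀ g : L, ∃ a b : ZMod p, a ≠ 0 ∧ ∀ k, g • e k = e (a * k + b))
    {g h : L} {x : α} (hg : g • x = x) (hh : h • x = x) : ∀ z : α, g • h • z = h • g • z := by
  obtain ⟨a, b, -, hga⟩ := haff g
  obtain ⟨a', b', -, hha⟩ := haff h
  obtain ⟨i, rfl⟩ := e.surjective x
  have h1 := e.injective ((hga i).symm.trans hg)
  have h2 := e.injective ((hha i).symm.trans hh)
  intro z
  obtain ⟨k, rfl⟩ := e.surjective z
  rw [hha, hga, hga, hha]
  congr 1
  linear_combination (a - 1) * h2 - (a' - 1) * h1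

end PrimeAct

namespace Frame

variable {G Ω : Type*} [Group G] [MulAction G Ω] {p : ℕ} {F : Frame G Ω p}
  [Finite G] [Finite Ω] [FaithfulSMul G Ω] [Fact p.Prime] {U : Subgroup G} (hR : F.Reg U)
include hR

theorem Reg.pow_sq {u : G} (hu : u ∈ U) : u ^ p ^ 2 = 1 := by
  rw [← hR.card]
  exact congrArg Subtype.val (pow_card_eq_one' (x := (⟨u, hu⟩ : U)))

theorem Reg.isPGroup : IsPGroup p U := IsPGroup.of_card (n := 2) hR.card

/-- The class action is transitive on the other classes when it is 2-transitive. -/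
theorem Reg.htr_of_two (h2 : IsMultiplyPretransitive F.Γ F.Bl 2) (y z : Ω) (hy : y ≠ F.a)
    (hz : z ≠ F.a) (hy' : ¬ F.A.R F.a F.b y) (hz' : ¬ F.A.R F.a F.b z) :
    ∃ h ∈ F.H, F.A.R F.a (h • y) z := by
  have hne : ∀ {w} (hw : w ≠ F.a), ¬ F.A.R F.a F.b w → F.blk F.b F.hab.symm ≠ F.blk w hw :=
    fun hw h e => h ((F.blk_eq_iff _ hw).1 e)
  obtain ⟨g, hg1, hg2⟩ := is_two_pretransitive_iff.1 h2 (hne hy hy') (hne hz hz')
  rw [F.smul_blk, F.blk_eq_iff] at hg1 hg2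
  obtain ⟨x, hx, hxb⟩ := hR.clsTrans _ _ hg1
  refine ⟨x * (g : G), F.mem_H.2 ⟨?_, ?_⟩, ?_⟩
  · rw [mul_smul, F.mem_Γ.1 g.2, hx.2.1]
  · rw [mul_smul]; exact hxb
  · rw [mul_smul]
    exact F.A.trans' (F.A.symm' (hx.2.2 _ (F.smul_ne g.2 hy))) hg2

/-- In that case `U` is normal. -/
theorem Reg.normal_of_two (h2 : IsMultiplyPretransitive F.Γ F.Bl 2) :
    ∀ g ∈ F.Γ, ∀ u ∈ U, g * u * g⁻¹ ∈ U := by
  classical
  have hp := (Fact.out : p.Prime)
  have hbot : ∀ k ∈ F.K, k • F.b = F.b → k = 1 := fun k hk hk' =>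
    hR.inf_H_eq_bot (hR.htr_of_two h2) hk hk'
  have hKU : F.K ≤ U := by
    have h1 := hR.card_stab_K F.hab.symm
    have h0 : F.K ⊓ stabilizer G F.b = ⊥ :=
      (Subgroup.eq_bot_iff_forall _).2 fun k hk => hbot k hk.1 hk.2
    rw [h0, Subgroup.card_bot, mul_one] at h1
    intro k hk
    have heq : (U ⊓ F.K : Subgroup G) = F.K :=
      Subgroup.eq_of_le_of_card_ge inf_le_right (le_of_eq (h1.trans hR.cardP.symm))
    rw [← heq] at hk
    exact hk.1
  obtain ⟨s, hs, hs'⟩ := F.exists_swap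
  obtain ⟨e0, he0, he0'⟩ : ∃ e ∈ F.A.sec F.b F.a, ¬ F.A.R F.a F.b e := by
    by_contra hcon
    push Not at hcon
    refine F.not_mapsTo hs hs' fun x hx => hcon _ ?_
    rw [← F.image_sec hs hs']
    exact ⟨x, hx, rfl⟩
  obtain ⟨-, hE2, -⟩ := hR.transversal (hR.htr_of_two h2) (F.A.sec F.b F.a)
    (fun h hh x hx => F.H_stable_sec' hh hx) (fun h => h.2 rfl) (F.A.ncard_sec F.hab) he0 he0'
  obtain ⟨x0, hx0, hx01⟩ : ∃ x ∈ U ⊓ F.K, x ≠ 1 := by
    by_contra hcon
    push Not at hcon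
    have h1 := hR.cardP
    rw [(Subgroup.eq_bot_iff_forall _).2 hcon, Subgroup.card_bot] at h1
    exact hp.one_lt.ne h1
  -- an element of `H` fixing a point of `sec a b` is trivial
  have hfree : ∀ k ∈ F.H, k • x0 • F.b = x0 • F.b → k = 1 := by
    intro k hk hkd
    have hc : k * x0 * k⁻¹ = x0 := by
      have hmem := hKU (F.conj_mem_K (F.H_le hk) hx0.2)
      have hfix : (x0⁻¹ * (k * x0 * k⁻¹)) • F.b = F.b := by
        have hkb : k⁻¹ • F.b = F.b := by rw [inv_smul_eq_iff, (F.mem_H.1 hk).2]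
        rw [mul_smul, mul_smul, mul_smul, hkb, hkd, inv_smul_smul]
      exact (inv_mul_eq_one.1
        (hR.semireg _ (mul_mem (inv_mem hx0.1) hmem) F.b F.hab.symm hfix)).symm
    have hcomm : k * x0 = x0 * k := by
      calc k * x0 = (k * x0 * k⁻¹) * k := by group
        _ = x0 * k := by rw [hc]
    have hΔ : ∀ z, F.A.R F.a F.b z → k • z = z := by
      intro z hz
      obtain ⟨y, hy, rfl⟩ := hR.clsTrans F.b z hz
      obtain ⟨n, rfl⟩ := hR.pow_eq hx0 hx01 hy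
      rw [← mul_smul, (show Commute k x0 from hcomm).pow_right n |>.eq, mul_smul, (F.mem_H.1 hk).2]
    have hj := F.swap_conj hs hs' hk
    have hjK : s * k * s⁻¹ ∈ F.K := by
      refine ⟨(F.mem_H.1 hj).1, fun y hy => ?_⟩
      by_cases hyb : F.A.R F.a F.b y
      · have := F.smul_R (F.H_le hj) hyb
        rw [(F.mem_H.1 hj).2] at this
        exact F.A.trans' (F.A.symm' hyb) this
      · obtain ⟨e, he, hye⟩ := hE2 y hy hyb
        have hfixe : (s * k * s⁻¹) • e = e := by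
          rw [← F.image_sec hs hs'] at he
          obtain ⟨d, hd, rfl⟩ := he
          show (s * k * s⁻¹) • s • d = s • d
          rw [mul_smul, mul_smul, inv_smul_smul, hΔ d hd.1]
        have := F.smul_R (F.H_le hj) hye
        rw [hfixe] at this
        exact F.A.trans' hye (F.A.symm' this)
    have := hbot _ hjK (F.mem_H.1 hj).2
    exact conj_eq_one_iff.1 this
  have hHcard : Nat.card F.H ≤ p - 1 := by
    have hd : x0 • F.b ∈ F.A.sec F.a F.b := by
      refine ⟨hx0.2.2 _ F.hab.symm, fun h => hx01 (hR.semireg _ hx0.1 _ F.hab.symm h)⟩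
    refine (Nat.card_le_card_of_injective
      (fun h : F.H => (⟨(h : G) • x0 • F.b, F.H_stable_sec h.2 hd⟩ : F.A.sec F.a F.b)) ?_).trans
      (le_of_eq ((Nat.card_coe_set_eq _).trans (F.A.ncard_sec F.hab.symm)))
    intro h h' he
    have he' : (h : G) • x0 • F.b = (h' : G) • x0 • F.b := congrArg Subtype.val he
    have := hfree ((h' : G)⁻¹ * h) (mul_mem (inv_mem h'.2) h.2)
      (by rw [mul_smul, he', inv_smul_smul])
    exact Subtype.ext (inv_mul_eq_one.1 this).symm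
  -- Sylow counting
  have hcardU : Nat.card (U.subgroupOf F.Γ) = p ^ 2 := by
    rw [Nat.card_congr (Subgroup.subgroupOfEquivOfLe hR.le).toEquiv, hR.card]
  let S : Sylow p F.Γ := Sylow.ofCard (U.subgroupOf F.Γ) (by
    rw [hcardU, F.card_Γ, Nat.factorization_mul (pow_pos hp.pos 2).ne' Nat.card_pos.ne',
      Finsupp.add_apply, hp.factorization_pow, Finsupp.single_eq_same,
      Nat.factorization_eq_zero_of_not_dvd hR.notDvd, add_zero])
  have hidx : (S : Subgroup F.Γ).index = Nat.card F.H := by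
    have := (S : Subgroup F.Γ).card_mul_index
    rw [show Nat.card (S : Subgroup F.Γ) = p ^ 2 from hcardU, F.card_Γ] at this
    exact Nat.eq_of_mul_eq_mul_left (pow_pos hp.pos 2) this
  have hn1 : Nat.card (Sylow p F.Γ) = 1 := by
    have h1 := Nat.le_of_dvd Nat.card_pos (hidx ▸ S.card_dvd_index)
    have h3 := card_sylow_modEq_one p F.Γ
    have h5 := hp.two_le
    have h6 : Nat.card (Sylow p F.Γ) % p = 1 % p := h3
    rw [Nat.mod_eq_of_lt (by omega), Nat.mod_eq_of_lt hp.one_lt] at h6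
    exact h6
  intro g hg u hu
  have := Finite.card_le_one_iff_subsingleton.1 hn1.le
  have hgS : (⟨g, hg⟩ : F.Γ) • S = S := Subsingleton.elim _ _
  have hmem : (⟨g, hg⟩ : F.Γ) * ⟨u, hR.le hu⟩ * (⟨g, hg⟩ : F.Γ)⁻¹ ∈ (S : Subgroup F.Γ) := by
    rw [← hgS, Sylow.coe_subgroup_smul, Subgroup.mem_pointwise_smul_iff_inv_smul_mem]
    have hu' : (⟨u, hR.le hu⟩ : F.Γ) ∈ (S : Subgroup F.Γ) := hu
    rw [← map_inv, MulAut.smul_def, MulAut.conj_apply]
    convert hu' using 1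
    group
  exact hmem

/-- When the classes are permuted affinely and the kernel part of `U` is normal in the block
kernel, `U` is normal. -/
theorem Reg.normal_of_affine {e : ZMod p ≃ F.Bl}
    (haff : ∀ g : F.Γ, ∃ a b : ZMod p, a ≠ 0 ∧ ∀ k, g • e k = e (a * k + b))
    (hPn : ∀ k ∈ F.K, ∀ x ∈ U ⊓ F.K, k * x * k⁻¹ ∈ U ⊓ F.K) :
    ∀ g ∈ F.Γ, ∀ u ∈ U, g * u * g⁻¹ ∈ U := by
  classical
  have hp := (Fact.out : p.Prime)
  have hnorm0 : ∀ k ∈ F.K, ∀ u ∈ U, k⁻¹ * u⁻¹ * k ∈ U := by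
    intro k hk u hu
    set c0 : G := k⁻¹ * (u⁻¹ * k * u) with hc0
    have hc0K : c0 ∈ F.K := by
      have h1 := F.conj_mem_K (inv_mem (hR.le hu)) hk
      rw [inv_inv] at h1
      exact mul_mem (inv_mem hk) h1
    have hcent : ∀ x ∈ U ⊓ F.K, c0 * x = x * c0 := by
      intro x hx
      have hx' := hPn k hk x hx
      have e1 : u * x = x * u := hR.comm u hu x hx.1
      have e2 : u * (k * x * k⁻¹) = (k * x * k⁻¹) * u := hR.comm u hu _ hx'.1
      calc c0 * x = k⁻¹ * u⁻¹ * k * (u * x) := by rw [hc0]; group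
        _ = k⁻¹ * u⁻¹ * ((k * x * k⁻¹) * (k * u)) := by rw [e1]; group
        _ = k⁻¹ * u⁻¹ * ((k * x * k⁻¹) * u) * (u⁻¹ * k * u) := by group
        _ = k⁻¹ * u⁻¹ * (u * (k * x * k⁻¹)) * (u⁻¹ * k * u) := by rw [e2]
        _ = x * c0 := by rw [hc0]; group
    obtain ⟨x1, hx1, hx1b⟩ := hR.clsTrans F.b _ (hc0K.2 F.b F.hab.symm)
    have hone : x1⁻¹ * c0 = 1 := by
      refine hR.faithful (mul_mem (inv_mem hx1.2) hc0K) F.hab.symm fun z hz => ?_
      obtain ⟨y, hy, rfl⟩ := hR.clsTrans F.b z hz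
      have e3 : x1⁻¹ * y = y * x1⁻¹ := hR.comm _ (inv_mem hx1.1) _ hy.1
      rw [← mul_smul, mul_assoc, hcent y hy, ← mul_assoc, e3, mul_assoc, mul_smul y, mul_smul,
        ← hx1b, inv_smul_smul]
    have hc : x1 = c0 := inv_mul_eq_one.1 hone
    have : k⁻¹ * u⁻¹ * k = x1 * u⁻¹ := by rw [hc, hc0]; group
    rw [this]
    exact mul_mem hx1.1 (inv_mem hu)
  have hKnorm : ∀ k ∈ F.K, ∀ u ∈ U, k * u * k⁻¹ ∈ U := by
    intro k hk u hu
    have := hnorm0 k⁻¹ (inv_mem hk) u⁻¹ (inv_mem hu)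
    rwa [inv_inv, inv_inv] at this
  have hKN : F.K ≤ Subgroup.normalizer (U : Set G) := by
    intro k hk
    rw [Subgroup.mem_normalizer_iff]
    refine fun u => ⟨fun hu => hKnorm k hk u hu, fun hu => ?_⟩
    have := hKnorm k⁻¹ (inv_mem hk) _ hu
    simpa [mul_assoc] using this
  have htrans : ∀ u ∈ U, ∀ g : F.Γ, (g : G) = u → ∃ c : ZMod p, ∀ i, g • e i = e (i + c) := by
    intro u hu g hg
    refine aff_pgroup haff (n := 2) fun x => ?_
    have : g ^ p ^ 2 = 1 := Subtype.ext (by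
      rw [Subgroup.coe_pow, hg, Subgroup.coe_one, hR.pow_sq hu])
    rw [this, one_smul]
  obtain ⟨u0, hu0, c0, hc0, hu0e⟩ : ∃ u0 ∈ U, ∃ c : ZMod p, c ≠ 0 ∧
      ∀ (h : u0 ∈ F.Γ) i, (⟨u0, h⟩ : F.Γ) • e i = e (i + c) := by
    by_contra hcon
    push Not at hcon
    have hsub : ∀ S : F.Bl, S = F.blk F.b F.hab.symm := by
      intro S
      obtain ⟨y, hy, rfl⟩ := F.exists_blk S
      obtain ⟨u, hu, rfl⟩ := hR.trans y hy
      obtain ⟨c, hc⟩ := htrans u hu ⟨u, hR.le hu⟩ rfl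
      rw [← F.smul_blk ⟨u, hR.le hu⟩ F.hab.symm]
      obtain ⟨i, hi⟩ := e.surjective (F.blk F.b F.hab.symm)
      rw [← hi, hc]
      by_cases hc0 : c = 0
      · rw [hc0, add_zero]
      · obtain ⟨h, j, hj⟩ := hcon u hu c hc0
        exact absurd (hc j) hj
    have hsing : Subsingleton F.Bl := ⟨fun S T => (hsub S).trans (hsub T).symm⟩
    have := Finite.card_le_one_iff_subsingleton.2 hsing
    rw [F.card_Bl] at this
    have := hp.two_le
    omega
  have hconjN : ∀ g ∈ F.Γ, ∀ u ∈ U, g * u * g⁻¹ ∈ Subgroup.normalizer (U : Set G) := by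
    intro g hg u hu
    set w : F.Γ := ⟨g, hg⟩ * ⟨u, hR.le hu⟩ * (⟨g, hg⟩ : F.Γ)⁻¹ with hw
    obtain ⟨c, hc⟩ : ∃ c : ZMod p, ∀ i, w • e i = e (i + c) := by
      refine aff_pgroup haff (n := 2) fun x => ?_
      have : w ^ p ^ 2 = 1 := Subtype.ext (by
        rw [hw, Subgroup.coe_pow, Subgroup.coe_one]
        show (g * u * g⁻¹) ^ p ^ 2 = 1
        rw [conj_pow, hR.pow_sq hu, mul_one, mul_inv_cancel])
      rw [this, one_smul]
    set n : ℕ := (c / c0).val
    set v : F.Γ := (⟨u0, hR.le hu0⟩ : F.Γ) ^ n with hv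
    have hpow : ∀ (m : ℕ) i, (⟨u0, hR.le hu0⟩ : F.Γ) ^ m • e i = e (i + (m : ZMod p) * c0) := by
      intro m
      induction m with
      | zero => intro i; simp
      | succ m ih => intro i; rw [pow_succ', mul_smul, ih, hu0e]; congr 1; push_cast; ring
    have hn : (n : ZMod p) * c0 = c := by
      rw [ZMod.natCast_zmod_val, div_mul_cancel₀ _ hc0]
    have hK : ((v⁻¹ * w : F.Γ) : G) ∈ F.K := (F.smul_bl_eq_iff_mem_K _).1 fun S => by
      obtain ⟨i, rfl⟩ := e.surjective S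
      rw [mul_smul, hc, inv_smul_eq_iff, hv, hpow, hn]
    have : g * u * g⁻¹ = u0 ^ n * ((v⁻¹ * w : F.Γ) : G) := by
      rw [hv, hw]; simp [mul_assoc]
    rw [this]
    exact mul_mem (Subgroup.le_normalizer (pow_mem hu0 n)) (hKN hK)
  intro g hg u hu
  let V : Subgroup G := U.map (MulAut.conj g).toMonoidHom
  have hVp : IsPGroup p V := hR.isPGroup.map _
  have hVle : V ≤ Subgroup.normalizer (U : Set G) := by
    rintro _ ⟨x, hx, rfl⟩
    exact hconjN g hg x hx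
  have hjoin := IsPGroup.to_sup_of_normal_right' hVp hR.isPGroup hVle
  obtain ⟨n, hn⟩ := IsPGroup.iff_card.1 hjoin
  have hsupΓ : V ⊔ U ≤ F.Γ := by
    refine sup_le ?_ hR.le
    rintro _ ⟨x, hx, rfl⟩
    exact mul_mem (mul_mem hg (hR.le hx)) (inv_mem hg)
  have hle2 : Nat.card (V ⊔ U : Subgroup G) ≤ p ^ 2 := by
    refine Nat.le_of_dvd (pow_pos hp.pos 2) ?_
    refine Nat.Coprime.dvd_of_dvd_mul_right ?_ ((Subgroup.card_dvd_of_le hsupΓ).trans
      (dvd_of_eq F.card_Γ))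
    rw [hn]
    exact Nat.Coprime.pow_left _ (hp.coprime_iff_not_dvd.2 hR.notDvd)
  have heq : U = V ⊔ U := Subgroup.eq_of_le_of_card_ge le_sup_right (by rw [hR.card]; exact hle2)
  rw [heq]
  exact Subgroup.mem_sup_left ⟨u, hu, rfl⟩

end Frame

end Cfsg.Agent.Perm.SquarePlusOne
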