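import Cfsg.Agent.Lib.Perm.SquarePlusOne.Rel
import Cfsg.Agent.Lib.Perm.Basic

/-! 2-transitive groups of degree `p ^ 2 + 1` with an apex relation: the block kernel, a Sylow
`p`-subgroup of a point stabiliser, and `p ∤ #G_{ab}`. -/

set_option autoImplicit false

namespace Cfsg.Agent.Perm.SquarePlusOne

open MulAction

/-- A `p`-group fixes pointwise an invariant set of at most `p` points containing a fixed point. -/
theorem fix_of_isPGroup {P α : Type*} [Group P] [MulAction P α] {p : ℕ} [Fact p.Prime]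
    (hP : IsPGroup p P) (S : Set α) (hSf : S.Finite) (hS : ∀ g : P, ∀ x ∈ S, g • x ∈ S)
    (hcard : S.ncard ≤ p) {b : α} (hb : b ∈ S) (hbfix : ∀ g : P, g • b = b) :
    ∀ g : P, ∀ x ∈ S, g • x = x := by
  intro g x hx
  by_cases hxb : x = b
  · rw [hxb, hbfix]
  have hsub : orbit P x ⊆ S \ {b} := by
    rintro y ⟨h, rfl⟩
    refine ⟨hS h x hx, fun e => hxb ?_⟩
    have e' : h • x = b := e
    rw [← hbfix h] at e'
    exact MulAction.injective h e'
  have hf : (orbit P x).Finite := (hSf.subset (hsub.trans Set.sdiff_subset))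
  have := hf.to_subtype
  obtain ⟨n, hn⟩ := hP.card_orbit x
  have hle : (orbit P x).ncard ≤ p - 1 := by
    refine (Set.ncard_le_ncard hsub (hSf.subset Set.sdiff_subset)).trans ?_
    rw [Set.ncard_sdiff_singleton_of_mem hb]
    omega
  rw [Nat.card_coe_set_eq] at hn
  have hp := (Fact.out : p.Prime).two_le
  have hn0 : n = 0 := by
    by_contra hn0
    have := Nat.le_self_pow hn0 p
    omega
  rw [hn0, pow_zero] at hn
  obtain ⟨y, hy⟩ := Set.ncard_eq_one.1 hn
  have h1 : g • x = y := by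
    have : g • x ∈ orbit P x := mem_orbit x g
    rwa [hy] at this
  have h2 : x = y := by
    have : x ∈ orbit P x := mem_orbit_self x
    rwa [hy] at this
  rw [h1, ← h2]

/-- The data: two points, 2-transitivity, the degree, and an apex relation. -/
structure Frame (G Ω : Type*) [Group G] [MulAction G Ω] (p : ℕ) where
  /-- first point -/
  a : Ω
  /-- second point -/
  b : Ω
  hab : a ≠ b
  h2 : IsMultiplyPretransitive G Ω 2
  hn : Nat.card Ω = p ^ 2 + 1
  /-- the apex relation -/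
  A : ApexRel G Ω p

namespace Frame

variable {G Ω : Type*} [Group G] [MulAction G Ω] {p : ℕ} (F : Frame G Ω p)

/-- The stabiliser of `a`. -/
abbrev Γ : Subgroup G := stabilizer G F.a

/-- The two-point stabiliser. -/
abbrev H : Subgroup G := stabilizer G F.a ⊓ stabilizer G F.b

/-- The kernel of the action of `G_a` on the classes seen from `a`. -/
def K : Subgroup G where
  carrier := {g | g • F.a = F.a ∧ ∀ y, y ≠ F.a → F.A.R F.a y (g • y)}
  one_mem' := ⟨one_smul _ _, fun y hy => by rw [one_smul]; exact F.A.refl' hy⟩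
  mul_mem' := by
    rintro g h ⟨hg, hg'⟩ ⟨hh, hh'⟩
    refine ⟨by rw [mul_smul, hh, hg], fun y hy => ?_⟩
    rw [mul_smul]
    exact F.A.trans' (hh' y hy) (hg' _ (F.A.ne_right (hh' y hy)))
  inv_mem' := by
    rintro g ⟨hg, hg'⟩
    refine ⟨by rw [inv_smul_eq_iff, hg], fun y hy => ?_⟩
    have hy' : g⁻¹ • y ≠ F.a := fun h => hy (by rw [inv_smul_eq_iff] at h; rw [h, hg])
    have := hg' _ hy'
    rw [smul_inv_smul] at this
    exact F.A.symm' this

theorem mem_Γ {g : G} : g ∈ F.Γ ↔ g • F.a = F.a := mem_stabilizer_iff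

theorem mem_H {g : G} : g ∈ F.H ↔ g • F.a = F.a ∧ g • F.b = F.b := Iff.rfl

theorem mem_K {g : G} : g ∈ F.K ↔ g • F.a = F.a ∧ ∀ y, y ≠ F.a → F.A.R F.a y (g • y) := Iff.rfl

theorem K_le : F.K ≤ F.Γ := fun _ hg => hg.1

theorem H_le : F.H ≤ F.Γ := inf_le_left

theorem smul_ne {g : G} (hg : g ∈ F.Γ) {y : Ω} (hy : y ≠ F.a) : g • y ≠ F.a := fun h =>
  hy (MulAction.injective g (h.trans (F.mem_Γ.1 hg).symm))

theorem smul_R {g : G} (hg : g ∈ F.Γ) {y z : Ω} (h : F.A.R F.a y z) :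
    F.A.R F.a (g • y) (g • z) := by
  have := F.A.smul' g h
  rwa [F.mem_Γ.1 hg] at this

theorem conj_mem_K {g k : G} (hg : g ∈ F.Γ) (hk : k ∈ F.K) : g * k * g⁻¹ ∈ F.K := by
  refine ⟨F.mem_Γ.1 (mul_mem (mul_mem hg (F.K_le hk)) (inv_mem hg)), fun y hy => ?_⟩
  have := F.smul_R hg (hk.2 _ (F.smul_ne (inv_mem hg) hy))
  rwa [smul_inv_smul, ← mul_smul, ← mul_smul] at this

theorem K_stable {k : G} (hk : k ∈ F.K) {y z : Ω} (hz : z ∈ F.A.cls F.a y) :
    k • z ∈ F.A.cls F.a y :=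
  F.A.trans' hz (hk.2 z (F.A.ne_right hz))

theorem exists_swap : ∃ s : G, s • F.a = F.b ∧ s • F.b = F.a :=
  is_two_pretransitive_iff.1 F.h2 F.hab F.hab.symm

theorem exists_Γ_smul {y z : Ω} (hy : y ≠ F.a) (hz : z ≠ F.a) : ∃ g ∈ F.Γ, g • y = z := by
  obtain ⟨g, hg, hg'⟩ := is_two_pretransitive_iff.1 F.h2 hy.symm hz.symm
  exact ⟨g, hg, hg'⟩

theorem swap_conj {s h : G} (hs : s • F.a = F.b) (hs' : s • F.b = F.a) (hh : h ∈ F.H) :
    s * h * s⁻¹ ∈ F.H := by
  have e1 : s⁻¹ • F.a = F.b := by rw [inv_smul_eq_iff, hs']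
  have e2 : s⁻¹ • F.b = F.a := by rw [inv_smul_eq_iff, hs]
  refine ⟨?_, ?_⟩
  · show (s * h * s⁻¹) • F.a = F.a
    rw [mul_smul, mul_smul, e1, (F.mem_H.1 hh).2, hs']
  · show (s * h * s⁻¹) • F.b = F.b
    rw [mul_smul, mul_smul, e2, (F.mem_H.1 hh).1, hs]

theorem swap_inv {s : G} (hs : s • F.a = F.b) (hs' : s • F.b = F.a) :
    s⁻¹ • F.a = F.b ∧ s⁻¹ • F.b = F.a :=
  ⟨by rw [inv_smul_eq_iff, hs'], by rw [inv_smul_eq_iff, hs]⟩

theorem image_sec {s : G} (hs : s • F.a = F.b) (hs' : s • F.b = F.a) :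
    (fun x => s • x) '' F.A.sec F.a F.b = F.A.sec F.b F.a := by
  rw [← F.A.sec_smul, hs, hs']

theorem H_stable_sec {h : G} (hh : h ∈ F.H) {x : Ω} (hx : x ∈ F.A.sec F.a F.b) :
    h • x ∈ F.A.sec F.a F.b := by
  have := Set.mem_image_of_mem (fun z => h • z) hx
  rwa [← F.A.sec_smul, (F.mem_H.1 hh).1, (F.mem_H.1 hh).2] at this

theorem H_stable_sec' {h : G} (hh : h ∈ F.H) {x : Ω} (hx : x ∈ F.A.sec F.b F.a) :
    h • x ∈ F.A.sec F.b F.a := by
  have := Set.mem_image_of_mem (fun z => h • z) hx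
  rwa [← F.A.sec_smul, (F.mem_H.1 hh).1, (F.mem_H.1 hh).2] at this

/-- An element exchanging `a` and `b` cannot carry the class of `b` into itself. -/
theorem not_mapsTo [Finite Ω] [Fact p.Prime] {s : G} (hs : s • F.a = F.b) (hs' : s • F.b = F.a) :
    ¬ (∀ x ∈ F.A.sec F.a F.b, s • x ∈ F.A.cls F.a F.b) := by
  intro h
  refine F.A.noDesign F.h2 (Fact.out : p.Prime).two_le F.hn F.hab ?_
  refine (Set.eq_of_subset_of_ncard_le ?_ ?_ (Set.toFinite _)).symm
  · rw [← F.image_sec hs hs']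
    rintro _ ⟨x, hx, rfl⟩
    refine ⟨h x hx, fun e => F.A.ne_right hx.1 ?_⟩
    exact MulAction.injective s ((show s • x = F.b from e).trans hs.symm)
  · rw [F.A.ncard_sec F.hab.symm, F.A.ncard_sec F.hab]

theorem card_G [Finite G] [Finite Ω] : Nat.card G = (p ^ 2 + 1) * Nat.card F.Γ := by
  have : IsPretransitive G Ω := have := F.h2; isPretransitive_of_is_two_pretransitive
  rw [← F.Γ.index_mul_card, index_stabilizer_of_transitive, F.hn]

theorem orbit_Γ : orbit F.Γ F.b = {F.a}ᶜ := by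
  ext y
  constructor
  · rintro ⟨g, rfl⟩
    exact F.smul_ne g.2 F.hab.symm
  · intro hy
    obtain ⟨g, hg, rfl⟩ := F.exists_Γ_smul F.hab.symm hy
    exact ⟨⟨g, hg⟩, rfl⟩

theorem ncard_compl [Finite Ω] : ({F.a}ᶜ : Set Ω).ncard = p ^ 2 := by
  rw [Set.ncard_compl, Set.ncard_singleton, F.hn, Nat.add_sub_cancel]

theorem card_Γ [Finite G] [Finite Ω] : Nat.card F.Γ = p ^ 2 * Nat.card F.H := by
  rw [← (stabilizer F.Γ F.b).index_mul_card, index_stabilizer, F.orbit_Γ, F.ncard_compl]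
  congr 1
  exact Nat.card_congr
    { toFun := fun g => ⟨g.1.1, g.1.2, g.2⟩
      invFun := fun g => ⟨⟨g.1, g.2.1⟩, g.2.2⟩
      left_inv := fun _ => rfl
      right_inv := fun _ => rfl }

/-! ### The classes seen from `a` as points -/

/-- The classes seen from `a`. -/
def Bl : Type _ := {S : Set Ω // ∃ y, y ≠ F.a ∧ S = F.A.cls F.a y}

instance [Finite Ω] : Finite F.Bl := by unfold Bl; infer_instance

/-- The class of a point, as a block. -/
def blk (y : Ω) (hy : y ≠ F.a) : F.Bl := ⟨F.A.cls F.a y, y, hy, rfl⟩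

theorem blk_eq_iff {y z : Ω} (hy : y ≠ F.a) (hz : z ≠ F.a) :
    F.blk y hy = F.blk z hz ↔ F.A.R F.a y z := by
  constructor
  · intro h
    have h' : F.A.cls F.a y = F.A.cls F.a z := congrArg Subtype.val h
    have hzz : z ∈ F.A.cls F.a z := F.A.refl' hz
    rwa [← h'] at hzz
  · intro h
    exact Subtype.ext (F.A.cls_eq h).symm

instance blAction : MulAction F.Γ F.Bl where
  smul g S := ⟨(fun x => (g : G) • x) '' S.1, by
    obtain ⟨y, hy, hS⟩ := S.2
    exact ⟨(g : G) • y, F.smul_ne g.2 hy, by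
      rw [hS, ← F.A.cls_smul, F.mem_Γ.1 g.2]⟩⟩
  one_smul S := Subtype.ext (by
    show (fun x => ((1 : F.Γ) : G) • x) '' S.1 = S.1
    simp)
  mul_smul g h S := Subtype.ext (by
    show (fun x => ((g * h : F.Γ) : G) • x) '' S.1 =
      (fun x => (g : G) • x) '' ((fun x => (h : G) • x) '' S.1)
    rw [Set.image_image]
    simp [mul_smul])

theorem smul_blk (g : F.Γ) {y : Ω} (hy : y ≠ F.a) :
    g • F.blk y hy = F.blk ((g : G) • y) (F.smul_ne g.2 hy) := by
  apply Subtype.ext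
  show (fun x => (g : G) • x) '' F.A.cls F.a y = F.A.cls F.a ((g : G) • y)
  rw [← F.A.cls_smul, F.mem_Γ.1 g.2]

theorem exists_blk (S : F.Bl) : ∃ (y : Ω) (hy : y ≠ F.a), F.blk y hy = S := by
  obtain ⟨T, y, hy, hS⟩ := S
  subst hS
  exact ⟨y, hy, rfl⟩

theorem smul_bl_eq_iff_mem_K (g : F.Γ) : (∀ S : F.Bl, g • S = S) ↔ (g : G) ∈ F.K := by
  constructor
  · intro h
    refine ⟨F.mem_Γ.1 g.2, fun y hy => ?_⟩
    have := h (F.blk y hy)
    rw [F.smul_blk g hy, F.blk_eq_iff] at this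
    exact F.A.symm' this
  · intro h S
    obtain ⟨y, hy, rfl⟩ := F.exists_blk S
    rw [F.smul_blk g hy, F.blk_eq_iff]
    exact F.A.symm' (h.2 y hy)

theorem card_Bl [Finite Ω] [Fact p.Prime] : Nat.card F.Bl = p := by
  classical
  have _ := Fintype.ofFinite Ω
  have _ := Fintype.ofFinite F.Bl
  have hp := (Fact.out : p.Prime).pos
  let f : {y : Ω // y ≠ F.a} → F.Bl := fun y => F.blk y.1 y.2
  have h1 : (Finset.univ : Finset {y : Ω // y ≠ F.a}).card =
      ∑ S : F.Bl, (Finset.univ.filter fun y => f y = S).card :=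
    Finset.card_eq_sum_card_fiberwise (fun y _ => Finset.mem_univ _)
  have h2 : ∀ S : F.Bl, (Finset.univ.filter fun y => f y = S).card = p := by
    intro S
    obtain ⟨z, hz, rfl⟩ := F.exists_blk S
    refine Eq.trans ?_ (F.A.card' hz)
    rw [← Set.ncard_coe_finset, ← Set.ncard_image_of_injective _ Subtype.val_injective]
    congr 1
    ext y
    simp only [f, Finset.coe_filter, Finset.mem_univ, true_and, Set.mem_image]
    constructor
    · rintro ⟨⟨y, hy⟩, h, rfl⟩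
      exact F.A.symm' ((F.blk_eq_iff hy hz).1 h)
    · intro h
      exact ⟨⟨y, F.A.ne_right h⟩, (F.blk_eq_iff _ hz).2 (F.A.symm' h), rfl⟩
  have h3 : (Finset.univ : Finset {y : Ω // y ≠ F.a}).card = p ^ 2 := by
    rw [Finset.card_univ, ← Nat.card_eq_fintype_card, ← F.ncard_compl, ← Nat.card_coe_set_eq]
    rfl
  rw [h3, Finset.sum_congr rfl (fun S _ => h2 S), Finset.sum_const, smul_eq_mul,
    Finset.card_univ] at h1
  rw [Nat.card_eq_fintype_card]
  exact Nat.eq_of_mul_eq_mul_right hp (by rw [← h1, sq])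

instance bl_isPretransitive : IsPretransitive F.Γ F.Bl := ⟨fun S T => by
  obtain ⟨y, hy, rfl⟩ := F.exists_blk S
  obtain ⟨z, hz, rfl⟩ := F.exists_blk T
  obtain ⟨g, hg, rfl⟩ := F.exists_Γ_smul hy hz
  exact ⟨⟨g, hg⟩, F.smul_blk ⟨g, hg⟩ hy⟩⟩

end Frame

end Cfsg.Agent.Perm.SquarePlusOne
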