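import Cfsg.Agent.Lib.Perm.SquarePlusOne.Affine

/-! The affine case in which the block kernel is not affine on a class is impossible. -/

set_option autoImplicit false
set_option linter.unusedSectionVars false

namespace Cfsg.Agent.Perm.SquarePlusOne

open MulAction

/-- A transfer to a point stabiliser whose character kills the two-point stabilisers extends it. -/
theorem transfer_stabilizer {K α A : Type*} [Group K] [Finite K] [MulAction K α] [CommGroup A]
    {b : α} (ϕ : stabilizer K b →* A)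
    (hϕ : ∀ (w : stabilizer K b) (g : K), g • b ≠ b → (w : K) • g • b = g • b → ϕ w = 1)
    (w : stabilizer K b) : MonoidHom.transfer ϕ (w : K) = ϕ w := by
  classical
  have _ := Fintype.ofFinite (Quotient (orbitRel (Subgroup.zpowers (w : K)) (K ⧸ stabilizer K b)))
  rw [MonoidHom.transfer_eq_prod_quotient_orbitRel_zpowers_quot]
  let q0 : Quotient (orbitRel (Subgroup.zpowers (w : K)) (K ⧸ stabilizer K b)) :=
    Quotient.mk'' ((1 : K) : K ⧸ stabilizer K b)
  have hwone : (w : K) • ((1 : K) : K ⧸ stabilizer K b) = ((1 : K) : K ⧸ stabilizer K b) :=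
    (QuotientGroup.eq (s := stabilizer K b)).2 (by simp)
  have hzfix : ∀ z ∈ Subgroup.zpowers (w : K), z • ((1 : K) : K ⧸ stabilizer K b) =
      ((1 : K) : K ⧸ stabilizer K b) := fun z hz =>
    Subgroup.zpowers_le.2
      (show (w : K) ∈ stabilizer K ((1 : K) : K ⧸ stabilizer K b) from hwone) hz
  have hq0 : q0.out = ((1 : K) : K ⧸ stabilizer K b) := by
    have h1 : orbitRel (Subgroup.zpowers (w : K)) (K ⧸ stabilizer K b) q0.out
        ((1 : K) : K ⧸ stabilizer K b) :=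
      Quotient.mk_out (s := orbitRel (Subgroup.zpowers (w : K)) (K ⧸ stabilizer K b)) _
    obtain ⟨⟨z, hz⟩, hz'⟩ := h1
    rw [← hz']
    exact hzfix z hz
  rw [Finset.prod_eq_single q0]
  · have hper : Function.minimalPeriod (fun x => (w : K) • x) q0.out = 1 := by
      rw [Function.minimalPeriod_eq_one_iff_isFixedPt]
      show (w : K) • q0.out = q0.out
      rw [hq0, hwone]
    have hc : Quotient.out q0.out ∈ stabilizer K b := by
      have h1 : ((Quotient.out q0.out : K) : K ⧸ stabilizer K b) =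
          ((1 : K) : K ⧸ stabilizer K b) := (QuotientGroup.out_eq' q0.out).trans hq0
      simpa using (QuotientGroup.eq (s := stabilizer K b)).1 h1
    calc _ = ϕ ((⟨_, hc⟩ : stabilizer K b)⁻¹ * w * ⟨_, hc⟩) :=
          congrArg ϕ (Subtype.ext (by simp [hper]))
      _ = ϕ w := by rw [map_mul, map_mul, map_inv, mul_comm _ (ϕ w), inv_mul_cancel_right]
  · intro q _ hq
    refine hϕ _ (Quotient.out q.out)⁻¹ (fun e => hq ?_) ?_
    · have hcW : Quotient.out q.out ∈ stabilizer K b := by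
        rw [inv_smul_eq_iff] at e
        exact e.symm
      have h1 : q.out = ((1 : K) : K ⧸ stabilizer K b) := by
        rw [← QuotientGroup.out_eq' q.out]
        exact (QuotientGroup.eq (s := stabilizer K b)).2 (by simpa using hcW)
      show q = q0
      rw [← Quotient.out_eq' q, h1]
    · rw [mul_smul, smul_inv_smul, mul_smul]
      have h1 : (w : K) ^ Function.minimalPeriod (fun x => (w : K) • x) q.out ∈ stabilizer K b :=
        pow_mem w.2 _
      rw [mem_stabilizer_iff.1 h1]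
  · intro h; exact absurd (Finset.mem_univ _) h

namespace Frame

variable {G Ω : Type*} [Group G] [MulAction G Ω] {p : ℕ} {F : Frame G Ω p}
  [Finite G] [Finite Ω] [FaithfulSMul G Ω] [Fact p.Prime] {U : Subgroup G} (hR : F.Reg U)
include hR

theorem Reg.card_dvd_H {W : Subgroup G} (hW : W ≤ F.H) : ¬ p ∣ Nat.card W := fun h =>
  hR.notDvd (h.trans (Subgroup.card_dvd_of_le hW))

/-- A subgroup of `K` containing the kernel part of `U` either normalises it or is 2-transitive on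
the class of `b`. -/
theorem Reg.cls_dichotomy (L : Subgroup G) (hLK : L ≤ F.K) (hPL : U ⊓ F.K ≤ L) :
    (∀ l ∈ L, ∀ x ∈ U ⊓ F.K, l * x * l⁻¹ ∈ U ⊓ F.K) ∨
      (∀ x ∈ F.A.sec F.a F.b, ∀ y ∈ F.A.sec F.a F.b, ∃ l ∈ L, l • F.b = F.b ∧ l • x = y) := by
  let Cl : SubMulAction L Ω :=
    { carrier := F.A.cls F.a F.b
      smul_mem' := fun x {z} hz => F.K_stable (hLK x.2) hz }
  have : IsPretransitive L Cl := ⟨fun u v => by
    obtain ⟨x, hx, hxu⟩ := hR.clsTrans u v (F.A.trans' (F.A.symm' u.2) v.2)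
    exact ⟨⟨x, hPL hx⟩, Subtype.ext hxu⟩⟩
  have hc : Nat.card Cl = p :=
    (Nat.card_coe_set_eq (F.A.cls F.a F.b)).trans (F.A.card' F.hab.symm)
  rcases prime_dichotomy (L := L) hc with h | ⟨e, he⟩
  · right
    intro x hx y hy
    obtain ⟨l, hl1, hl2⟩ := is_two_pretransitive_iff.1 h
      (show (⟨F.b, F.A.refl' F.hab.symm⟩ : Cl) ≠ ⟨x, hx.1⟩ from
        fun e => hx.2 (congrArg Subtype.val e).symm)
      (show (⟨F.b, F.A.refl' F.hab.symm⟩ : Cl) ≠ ⟨y, hy.1⟩ from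
        fun e => hy.2 (congrArg Subtype.val e).symm)
    exact ⟨l, l.2, congrArg Subtype.val hl1, congrArg Subtype.val hl2⟩
  · left
    intro l hl x hx
    have htrans : ∀ w : L, (w : G) ^ p = 1 → ∃ c : ZMod p, ∀ i, w • e i = e (i + c) := fun w hw =>
      aff_pgroup he (n := 1) fun z => by
        have : w ^ p ^ 1 = 1 := Subtype.ext (by rw [pow_one, Subgroup.coe_pow, hw, Subgroup.coe_one])
        rw [this, one_smul]
    have hxp : ∀ z ∈ U ⊓ F.K, z ^ p = 1 := fun z hz => by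
      rw [← hR.cardP]
      exact congrArg Subtype.val (pow_card_eq_one' (x := (⟨z, hz⟩ : (U ⊓ F.K : Subgroup G))))
    have hwp : (l * x * l⁻¹) ^ p = 1 := by rw [conj_pow, hxp x hx, mul_one, mul_inv_cancel]
    set w : L := ⟨l * x * l⁻¹, mul_mem (mul_mem hl (hPL hx)) (inv_mem hl)⟩ with hw
    obtain ⟨c, hc'⟩ := htrans w hwp
    obtain ⟨x', hx', hx'e⟩ := hR.clsTrans (e 0 : Cl) ((w • e 0 : Cl) : Ω)
      (F.A.trans' (F.A.symm' (e 0).2) (w • e 0).2)
    obtain ⟨c', hc''⟩ := htrans ⟨x', hPL hx'⟩ (hxp x' hx')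
    have hcc : c = c' := by
      have h1 : (⟨x', hPL hx'⟩ : L) • e 0 = w • e 0 := Subtype.ext hx'e
      rw [hc', hc''] at h1
      simpa using (e.injective h1).symm
    have hone : x'⁻¹ * (l * x * l⁻¹) = 1 := by
      refine hR.faithful (mul_mem (inv_mem hx'.2) (hLK w.2)) F.hab.symm fun z hz => ?_
      obtain ⟨i, hi⟩ := e.surjective (⟨z, hz⟩ : Cl)
      have h1 : (⟨x', hPL hx'⟩ : L) • e i = w • e i := by rw [hc', hc'', hcc]
      rw [hi] at h1
      have h2 : x' • z = (l * x * l⁻¹) • z := congrArg Subtype.val h1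
      rw [mul_smul, ← h2, inv_smul_smul]
    rw [← inv_mul_eq_one.1 hone]
    exact hx'

/-- An element of order dividing `p` normalising the kernel part of `U` inside `K` lies in it. -/
theorem Reg.mem_of_pow {w : G} (hwK : w ∈ F.K) (hwp : w ^ p = 1)
    (hnorm : ∀ x ∈ U ⊓ F.K, w * x * w⁻¹ ∈ U ⊓ F.K) : w ∈ U ⊓ F.K := by
  classical
  have hp := (Fact.out : p.Prime)
  set P : Subgroup G := U ⊓ F.K with hP
  have hwN : Subgroup.zpowers w ≤ Subgroup.normalizer (P : Set G) := by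
    rw [Subgroup.zpowers_le, Subgroup.mem_normalizer_iff]
    intro x
    refine ⟨hnorm x, fun hx => ?_⟩
    let f : P → P := fun y => ⟨w * y * w⁻¹, hnorm y y.2⟩
    obtain ⟨y, hy⟩ := (Finite.injective_iff_surjective (f := f)).1 (fun a b hab => by
      simpa [f] using congrArg Subtype.val hab) ⟨_, hx⟩
    have : (y : G) = x := by simpa [f] using congrArg Subtype.val hy
    exact this ▸ y.2
  have hwpg : IsPGroup p (Subgroup.zpowers w) := by
    obtain ⟨m, -, hm⟩ := (Nat.dvd_prime_pow hp).1 (show orderOf w ∣ p ^ 1 by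
      rw [pow_one]; exact orderOf_dvd_of_pow_eq_one hwp)
    exact IsPGroup.of_card (n := m) (by rw [Nat.card_zpowers, hm])
  have hPp : IsPGroup p P := IsPGroup.of_card (n := 1) (by rw [hR.cardP, pow_one])
  obtain ⟨n, hn⟩ := IsPGroup.iff_card.1 (IsPGroup.to_sup_of_normal_right' hwpg hPp hwN)
  have hle : Subgroup.zpowers w ⊔ P ≤ F.K := sup_le (Subgroup.zpowers_le.2 hwK) inf_le_right
  have hK := hR.card_stab_K F.hab.symm
  have hW := hR.card_dvd_H (W := F.K ⊓ stabilizer G F.b)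
    (le_inf (inf_le_left.trans F.K_le) inf_le_right)
  have hle2 : Nat.card (Subgroup.zpowers w ⊔ P : Subgroup G) ≤ p := by
    refine Nat.le_of_dvd hp.pos ?_
    refine Nat.Coprime.dvd_of_dvd_mul_right ?_ ((Subgroup.card_dvd_of_le hle).trans (dvd_of_eq hK))
    rw [hn]
    exact Nat.Coprime.pow_left _ (hp.coprime_iff_not_dvd.2 hW)
  have heq : P = Subgroup.zpowers w ⊔ P :=
    Subgroup.eq_of_le_of_card_ge le_sup_right (by rw [hR.cardP]; exact hle2)
  rw [heq]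
  exact Subgroup.mem_sup_left (Subgroup.mem_zpowers w)

/-- The affine case with a non-affine block kernel reduces to `H ≤ K`. -/
theorem Reg.H_le_K {e : ZMod p ≃ F.Bl}
    (haff : ∀ g : F.Γ, ∃ a b : ZMod p, a ≠ 0 ∧ ∀ k, g • e k = e (a * k + b))
    (hPn : ¬ ∀ k ∈ F.K, ∀ x ∈ U ⊓ F.K, k * x * k⁻¹ ∈ U ⊓ F.K) :
    F.H ≤ F.K ∧ (∀ x ∈ F.A.sec F.a F.b, ∀ y ∈ F.A.sec F.a F.b, ∃ h ∈ F.H, h • x = y) ∧
      ∀ x ∈ F.A.sec F.b F.a, ∀ y ∈ F.A.sec F.b F.a, F.A.R F.a x y ∧ ¬ F.A.R F.a F.b x := by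
  classical
  have hp := (Fact.out : p.Prime)
  have hWtr : ∀ x ∈ F.A.sec F.a F.b, ∀ y ∈ F.A.sec F.a F.b,
      ∃ k ∈ F.K, k • F.b = F.b ∧ k • x = y :=
    (hR.cls_dichotomy F.K le_rfl inf_le_right).resolve_left hPn
  obtain ⟨s, hs, hs'⟩ := F.exists_swap
  have hHW : ∀ x ∈ F.A.sec F.a F.b, ∀ y ∈ F.A.sec F.a F.b, ∃ h ∈ F.H, h • x = y := by
    intro x hx y hy
    obtain ⟨k, hk, hkb, hkx⟩ := hWtr x hx y hy
    exact ⟨k, F.mem_H.2 ⟨hk.1, hkb⟩, hkx⟩
  have hEout : ∀ x ∈ F.A.sec F.b F.a, ¬ F.A.R F.a F.b x := by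
    intro x hx hxb
    refine F.A.noDesign F.h2 hp.two_le F.hn F.hab ?_
    refine Set.eq_of_subset_of_ncard_le (fun y hy => ?_)
      (by rw [F.A.ncard_sec F.hab, F.A.ncard_sec F.hab.symm]) (Set.toFinite _)
    obtain ⟨h, hh, rfl⟩ := hHW x ⟨hxb, fun e => F.A.ne_right hx.1 e⟩ y hy
    exact F.H_stable_sec' hh hx
  have hsemi : ∀ g ∈ F.Γ, ∀ y, y ≠ F.a → ¬ F.A.R F.a F.b y → F.A.R F.a (g • F.b) F.b →
      F.A.R F.a (g • y) y → g ∈ F.K := by
    intro g hg y hy hyb h1 h2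
    refine (F.smul_bl_eq_iff_mem_K ⟨g, hg⟩).1
      (aff_fix_two haff (x := F.blk F.b F.hab.symm) (y := F.blk y hy) ?_ ?_ ?_)
    · exact fun e => hyb ((F.blk_eq_iff _ hy).1 e)
    · rw [F.smul_blk, F.blk_eq_iff]; exact h1
    · rw [F.smul_blk, F.blk_eq_iff]; exact h2
  have hEK : ∀ h ∈ F.H, ∀ x ∈ F.A.sec F.b F.a, F.A.R F.a (h • x) x → h ∈ F.K := by
    intro h hh x hx hx'
    have hxa : x ≠ F.a := hx.2
    refine hsemi h (F.H_le hh) x hxa (hEout x hx) ?_ hx'
    rw [(F.mem_H.1 hh).2]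
    exact F.A.refl' F.hab.symm
  have hcomm : ∀ g ∈ F.H, ∀ h ∈ F.H, g * h * g⁻¹ * h⁻¹ ∈ F.K := by
    intro g hg h hh
    have hfix : ∀ (k : G) (hk : k ∈ F.H), (⟨k, F.H_le hk⟩ : F.Γ) • F.blk F.b F.hab.symm =
        F.blk F.b F.hab.symm := by
      intro k hk
      rw [F.smul_blk, F.blk_eq_iff]
      show F.A.R F.a (k • F.b) F.b
      rw [(F.mem_H.1 hk).2]
      exact F.A.refl' F.hab.symm
    have := aff_comm_of_fix haff (hfix g hg) (hfix h hh)
    refine (F.smul_bl_eq_iff_mem_K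
      (⟨g, F.H_le hg⟩ * ⟨h, F.H_le hh⟩ * (⟨g, F.H_le hg⟩ : F.Γ)⁻¹ * (⟨h, F.H_le hh⟩ : F.Γ)⁻¹)).1
      fun S => ?_
    rw [mul_smul, mul_smul, mul_smul, this, smul_inv_smul, smul_inv_smul]
  let W : Subgroup F.K := stabilizer F.K F.b
  have hWH : ∀ k : W, ((k : F.K) : G) ∈ F.H := fun k => F.mem_H.2 ⟨k.1.2.1, k.2⟩
  let cj : W →* G :=
    (MulAut.conj s).toMonoidHom.comp (F.K.subtype.comp W.subtype)
  have hcj : ∀ k : W, cj k = s * ((k : F.K) : G) * s⁻¹ := fun k => rfl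
  let W0 : Subgroup W := F.K.comap cj
  have hcjH : ∀ k : W, cj k ∈ F.H := fun k => F.swap_conj hs hs' (hWH k)
  have hW0n : W0.Normal := ⟨fun n hn g => by
    show cj (g * n * g⁻¹) ∈ F.K
    rw [map_mul, map_mul, map_inv]
    exact F.conj_mem_K (F.H_le (hcjH g)) hn⟩
  let _ : CommGroup (W ⧸ W0) :=
    { (inferInstance : Group (W ⧸ W0)) with
      mul_comm := by
        rintro ⟨g⟩ ⟨h⟩
        refine (QuotientGroup.eq (s := W0)).2 ?_
        show cj ((g * h)⁻¹ * (h * g)) ∈ F.K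
        have := hcomm _ (inv_mem (hcjH h)) _ (inv_mem (hcjH g))
        rw [inv_inv, inv_inv] at this
        simpa [map_mul, map_inv, mul_assoc] using this }
  let ϕ : W →* W ⧸ W0 := QuotientGroup.mk' W0
  have hD : ∀ k : W, ∀ d ∈ F.A.sec F.a F.b, ((k : F.K) : G) • d = d → k ∈ W0 := by
    intro k d hd hkd
    show cj k ∈ F.K
    refine hEK _ (hcjH k) (s • d) ?_ ?_
    · rw [← F.image_sec hs hs']; exact ⟨d, hd, rfl⟩
    · rw [hcj, mul_smul, mul_smul, inv_smul_smul, hkd]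
      refine F.A.refl' fun e => hd.2 (MulAction.injective s (e.trans hs'.symm))
  let V : F.K →* W ⧸ W0 := MonoidHom.transfer ϕ
  have hV : ∀ k : W, V k = ϕ k := transfer_stabilizer ϕ fun w g hg hw => by
    rw [← MonoidHom.mem_ker, show ϕ.ker = W0 from QuotientGroup.ker_mk' W0]
    refine hD w ((g : G) • F.b) ⟨F.K_stable g.2 (F.A.refl' F.hab.symm), hg⟩ hw
  let L : Subgroup G := V.ker.map F.K.subtype
  have hLK : L ≤ F.K := Subgroup.map_subtype_le _
  have hQp : ¬ p ∣ Nat.card (W ⧸ W0) := by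
    intro h
    refine hR.card_dvd_H (W := W.map F.K.subtype) ?_ ?_
    · rintro _ ⟨k, hk, rfl⟩
      exact hWH ⟨k, hk⟩
    · rw [Subgroup.card_map_of_injective F.K.subtype_injective]
      exact h.trans (Subgroup.card_quotient_dvd_card W0)
  have hxp : ∀ z ∈ U ⊓ F.K, z ^ p = 1 := fun z hz => by
    rw [← hR.cardP]
    exact congrArg Subtype.val (pow_card_eq_one' (x := (⟨z, hz⟩ : (U ⊓ F.K : Subgroup G))))
  have hPL : U ⊓ F.K ≤ L := by
    intro x hx
    refine ⟨⟨x, hx.2⟩, ?_, rfl⟩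
    rw [SetLike.mem_coe, MonoidHom.mem_ker, ← orderOf_eq_one_iff]
    have h1 : orderOf (V ⟨x, hx.2⟩) ∣ p := orderOf_dvd_of_pow_eq_one (by
      rw [← map_pow, show (⟨x, hx.2⟩ : F.K) ^ p = 1 from Subtype.ext (hxp x hx), map_one])
    exact ((Nat.dvd_prime hp).1 h1).resolve_right fun h =>
      hQp (h.symm.dvd.trans (orderOf_dvd_natCard _))
  have hLtr : ∀ x ∈ F.A.sec F.a F.b, ∀ y ∈ F.A.sec F.a F.b,
      ∃ l ∈ L, l • F.b = F.b ∧ l • x = y := by
    refine (hR.cls_dichotomy L hLK hPL).resolve_left fun hn => hPn fun k hk x hx => ?_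
    have hmem : k * x * k⁻¹ ∈ L := by
      obtain ⟨x', hx', hxe⟩ := Subgroup.mem_map.1 (hPL hx)
      rw [MonoidHom.mem_ker] at hx'
      refine Subgroup.mem_map.2 ⟨⟨k, hk⟩ * x' * (⟨k, hk⟩ : F.K)⁻¹, ?_, ?_⟩
      · rw [MonoidHom.mem_ker, map_mul, map_mul, map_inv, hx', mul_one, mul_inv_cancel]
      · rw [map_mul, map_mul, map_inv, hxe]
        rfl
    refine hR.mem_of_pow (hLK hmem) ?_ (hn _ hmem)
    rw [conj_pow, hxp x hx, mul_one, mul_inv_cancel]
  have hsame : ∀ x ∈ F.A.sec F.b F.a, ∀ y ∈ F.A.sec F.b F.a, F.A.R F.a x y := by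
    intro x hx y hy
    rw [← F.image_sec hs hs'] at hx hy
    obtain ⟨d, hd, rfl⟩ := hx
    obtain ⟨d', hd', rfl⟩ := hy
    obtain ⟨l, hl, hlb, hld⟩ := hLtr d hd d' hd'
    obtain ⟨k, hk, rfl⟩ := hl
    have hkW : k ∈ W := hlb
    have h1 : (⟨k, hkW⟩ : W) ∈ W0 := by
      rw [← show ϕ.ker = W0 from QuotientGroup.ker_mk' W0, MonoidHom.mem_ker, ← hV]
      exact hk
    have hne : s • d ≠ F.a := fun e => hd.2 (MulAction.injective s (e.trans hs'.symm))
    have := (show cj ⟨k, hkW⟩ ∈ F.K from h1).2 (s • d) hne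
    rw [hcj, mul_smul, mul_smul, inv_smul_smul] at this
    rwa [show ((k : F.K) : G) • d = d' from hld] at this
  refine ⟨fun h hh => ?_, hHW, fun x hx y hy => ⟨hsame x hx y hy, hEout x hx⟩⟩
  obtain ⟨x, hx⟩ : (F.A.sec F.b F.a).Nonempty := Set.nonempty_of_ncard_ne_zero (by
    rw [F.A.ncard_sec F.hab]; have := hp.two_le; omega)
  exact hEK h hh x hx (hsame _ (F.H_stable_sec' hh hx) x hx)

end Frame

end Cfsg.Agent.Perm.SquarePlusOne
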