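import Cfsg.Agent.Lib.Perm.SquarePlusOne.Affine

/-! For odd `p` the regular subgroup `U` cannot be normal in `G_a`. -/

set_option autoImplicit false
set_option linter.unusedSectionVars false

namespace Cfsg.Agent.Perm.SquarePlusOne

open MulAction

/-- In a 2-transitive group an involution with exactly two fixed points forces a large two-point
stabiliser. -/
theorem card_le_two_mul_stabilizer {G Ω : Type*} [Group G] [MulAction G Ω] [Finite G] [Finite Ω]
    (h2 : IsMultiplyPretransitive G Ω 2) {a b : Ω} (hab : a ≠ b) {z : G} (hz2 : z * z = 1)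
    (hza : z • a = a) (hzb : z • b = b) (hfix : ∀ x, z • x = x → x = a ∨ x = b) :
    Nat.card Ω - 2 ≤ 2 * Nat.card (stabilizer G a ⊓ stabilizer G b : Subgroup G) := by
  classical
  have _ := Fintype.ofFinite Ω
  have _ := Fintype.ofFinite G
  let Cz : Finset G := Finset.univ.filter fun w => ∃ g : G, w = g * z * g⁻¹
  let S : Finset (Ω × Ω) := Finset.univ.offDiag
  have hmemC : ∀ {w : G}, w ∈ Cz ↔ ∃ g : G, w = g * z * g⁻¹ := by
    intro w
    simp [Cz]
  have hinv : ∀ {w : G}, w ∈ Cz → ∀ x : Ω, w • w • x = x := by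
    intro w hw x
    obtain ⟨g, rfl⟩ := hmemC.1 hw
    rw [← mul_smul, show g * z * g⁻¹ * (g * z * g⁻¹) = g * (z * z) * g⁻¹ by group, hz2, mul_one,
      mul_inv_cancel, one_smul]
  have hfixC : ∀ {w : G}, w ∈ Cz → (Finset.univ.filter fun x : Ω => w • x = x).card = 2 := by
    intro w hw
    obtain ⟨g, rfl⟩ := hmemC.1 hw
    rw [show (Finset.univ.filter fun x : Ω => (g * z * g⁻¹) • x = x) = {g • a, g • b} by
      ext x
      simp only [Finset.mem_filter, Finset.mem_univ, true_and, Finset.mem_insert,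
        Finset.mem_singleton]
      constructor
      · intro h
        rw [mul_smul, mul_smul, ← eq_inv_smul_iff] at h
        rcases hfix _ h with h' | h'
        · left; rw [← h', smul_inv_smul]
        · right; rw [← h', smul_inv_smul]
      · rintro (rfl | rfl)
        · rw [mul_smul, mul_smul, inv_smul_smul, hza]
        · rw [mul_smul, mul_smul, inv_smul_smul, hzb]]
    exact Finset.card_pair fun h => hab (MulAction.injective g h)
  -- each element of the class moves all but two points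
  have habove : ∀ w ∈ Cz, (S.filter fun q => w • q.1 = q.2).card = Nat.card Ω - 2 := by
    intro w hw
    have h1 : (Finset.univ.filter fun x : Ω => ¬ w • x = x).card = Nat.card Ω - 2 := by
      have h2' := Finset.card_filter_add_card_filter_not (s := (Finset.univ : Finset Ω))
        (fun x : Ω => w • x = x)
      rw [hfixC hw, Finset.card_univ, ← Nat.card_eq_fintype_card] at h2'
      omega
    rw [← h1]
    refine Finset.card_bij (fun q _ => q.1) ?_ ?_ ?_
    · intro q hq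
      simp only [S, Finset.mem_filter, Finset.mem_offDiag, Finset.mem_univ, true_and] at hq ⊢
      exact fun h => hq.1 (h.symm.trans hq.2)
    · intro q hq q' hq' h
      simp only [S, Finset.mem_filter, Finset.mem_offDiag, Finset.mem_univ, true_and] at hq hq'
      exact Prod.ext h (by rw [← hq.2, ← hq'.2, h])
    · intro x hx
      simp only [Finset.mem_filter, Finset.mem_univ, true_and] at hx
      exact ⟨(x, w • x), by simp [S, Ne.symm hx], rfl⟩
  -- each pair is exchanged equally often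
  have hbelow : ∀ q ∈ S, (Cz.filter fun w => w • q.1 = q.2).card =
      (Cz.filter fun w => w • a = b).card := by
    rintro ⟨x, y⟩ hq
    have hxy : x ≠ y := by simpa [S] using hq
    obtain ⟨g, hga, hgb⟩ := is_two_pretransitive_iff.1 h2 hab hxy
    refine (Finset.card_bij (fun w _ => g * w * g⁻¹) ?_ ?_ ?_).symm
    · intro w hw
      simp only [Finset.mem_filter] at hw ⊢
      refine ⟨?_, ?_⟩
      · obtain ⟨k, hk⟩ := hmemC.1 hw.1
        exact hmemC.2 ⟨g * k, by rw [hk]; group⟩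
      · rw [← hga, mul_smul, mul_smul, inv_smul_smul, hw.2, hgb]
    · intro w _ w' _ h
      exact mul_left_cancel (mul_right_cancel h)
    · intro w hw
      simp only [Finset.mem_filter] at hw
      refine ⟨g⁻¹ * w * g, Finset.mem_filter.2 ⟨?_, ?_⟩, by group⟩
      · obtain ⟨k, hk⟩ := hmemC.1 hw.1
        exact hmemC.2 ⟨g⁻¹ * k, by rw [hk]; group⟩
      · rw [mul_smul, mul_smul, hga, hw.2, inv_smul_eq_iff, hgb]
  have hcount := Finset.sum_card_bipartiteAbove_eq_sum_card_bipartiteBelow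
    (fun (w : G) (q : Ω × Ω) => w • q.1 = q.2) (s := Cz) (t := S)
  simp only [Finset.bipartiteAbove, Finset.bipartiteBelow] at hcount
  rw [Finset.sum_congr rfl habove, Finset.sum_congr rfl hbelow, Finset.sum_const, Finset.sum_const,
    smul_eq_mul, smul_eq_mul] at hcount
  -- every pair is the fixed point pair of a conjugate
  have hpairs : ∀ q : Ω × Ω, ∃ w : G, q ∈ S → w ∈ Cz ∧ w • q.1 = q.1 ∧ w • q.2 = q.2 := by
    rintro ⟨x, y⟩
    by_cases hxy : x = y
    · exact ⟨1, fun h => absurd hxy (by simpa [S] using h)⟩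
    obtain ⟨g, hga, hgb⟩ := is_two_pretransitive_iff.1 h2 hab hxy
    exact ⟨g * z * g⁻¹, fun _ => ⟨hmemC.2 ⟨g, rfl⟩,
      by rw [← hga, mul_smul, mul_smul, inv_smul_smul, hza],
      by rw [← hgb, mul_smul, mul_smul, inv_smul_smul, hzb]⟩⟩
  choose f hf using hpairs
  have hS : S.card ≤ 2 * Cz.card := by
    have hsub : S.image f ⊆ Cz := fun w hw => by
      obtain ⟨q, hq, rfl⟩ := Finset.mem_image.1 hw
      exact (hf q hq).1
    refine le_trans (Finset.card_le_mul_card_image S 2 fun w hw => ?_)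
      (Nat.mul_le_mul le_rfl (Finset.card_le_card hsub))
    refine le_trans (Finset.card_le_card (t := (Finset.univ.filter fun x : Ω => w • x = x).offDiag)
      fun q hq => ?_) (le_of_eq (by rw [Finset.offDiag_card, hfixC (hsub hw)]))
    simp only [Finset.mem_filter] at hq
    obtain ⟨-, h1, h2'⟩ := hf q hq.1
    rw [hq.2] at h1 h2'
    simp only [Finset.mem_offDiag, Finset.mem_filter, Finset.mem_univ, true_and]
    exact ⟨h1, h2', by simpa [S] using hq.1⟩
  have hm : (Cz.filter fun w => w • a = b).card ≤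
      Nat.card (stabilizer G a ⊓ stabilizer G b : Subgroup G) := by
    rcases (Cz.filter fun w => w • a = b).eq_empty_or_nonempty with h | ⟨w0, hw0⟩
    · rw [h, Finset.card_empty]; exact Nat.zero_le _
    have hswap : ∀ w ∈ Cz.filter fun w => w • a = b, w • a = b ∧ w • b = a := by
      intro w hw
      simp only [Finset.mem_filter] at hw
      exact ⟨hw.2, by rw [← hw.2, hinv hw.1]⟩
    rw [← Finset.card_map ⟨fun w => w0⁻¹ * w, mul_right_injective _⟩, ← Set.ncard_coe_finset,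
      ← Nat.card_coe_set_eq]
    refine Nat.card_le_card_of_injective (Set.inclusion (s := _)
      (t := ((stabilizer G a ⊓ stabilizer G b : Subgroup G) : Set G)) ?_) (Set.inclusion_injective _)
    intro x hx
    rw [Finset.mem_coe, Finset.mem_map] at hx
    obtain ⟨w, hw, rfl⟩ := hx
    obtain ⟨h1, h2'⟩ := hswap w hw
    obtain ⟨h01, h02⟩ := hswap w0 hw0
    refine ⟨?_, ?_⟩
    · show (w0⁻¹ * w) • a = a
      rw [mul_smul, h1, inv_smul_eq_iff, h01]
    · show (w0⁻¹ * w) • b = b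
      rw [mul_smul, h2', inv_smul_eq_iff, h02]
  have hCpos : 0 < Cz.card := Finset.card_pos.2 ⟨z, hmemC.2 ⟨1, by group⟩⟩
  refine Nat.le_of_mul_le_mul_left ?_ hCpos
  rw [hcount]
  calc S.card * (Cz.filter fun w => w • a = b).card
      ≤ 2 * Cz.card * Nat.card (stabilizer G a ⊓ stabilizer G b : Subgroup G) :=
        Nat.mul_le_mul hS hm
    _ = Cz.card * (2 * Nat.card (stabilizer G a ⊓ stabilizer G b : Subgroup G)) := by ring

namespace Frame

variable {G Ω : Type*} [Group G] [MulAction G Ω] {p : ℕ} {F : Frame G Ω p}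

/-- An involution fixing exactly `a` and the class of `b` cannot commute with a swap. -/
theorem false_of_fix_cls [Finite Ω] [Fact p.Prime] {s z : G} (hs : s • F.a = F.b)
    (hs' : s • F.b = F.a) (hc : s * z = z * s)
    (hfix : ∀ x, z • x = x ↔ x = F.a ∨ F.A.R F.a F.b x) : False :=
  F.not_mapsTo hs hs' fun x hx => by
    rcases (hfix (s • x)).1 (by rw [← mul_smul, ← hc, mul_smul, (hfix x).2 (Or.inr hx.1)]) with
      h | h
    · exact absurd (MulAction.injective s (h.trans hs'.symm)) hx.2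
    · exact h

variable [Finite G] [Finite Ω] [FaithfulSMul G Ω] [Fact p.Prime] {U : Subgroup G} (hR : F.Reg U)
include hR

theorem Reg.eq_of_smul {u v : G} (hu : u ∈ U) (hv : v ∈ U) (h : u • F.b = v • F.b) : u = v :=
  (inv_mul_eq_one.1 (hR.semireg _ (mul_mem (inv_mem hv) hu) F.b F.hab.symm
    (by rw [mul_smul, h, inv_smul_smul]))).symm

theorem Reg.smul_ne_a {u : G} (hu : u ∈ U) : u • F.b ≠ F.a := F.smul_ne (hR.le hu) F.hab.symm

theorem Reg.R_iff {u v : G} (hu : u ∈ U) (hv : v ∈ U) :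
    F.A.R F.a (u • F.b) (v • F.b) ↔ u⁻¹ * v ∈ F.K := by
  constructor
  · intro h
    obtain ⟨x, hx, hxv⟩ := hR.clsTrans _ _ h
    rw [← mul_smul] at hxv
    rw [← hR.eq_of_smul (mul_mem hx.1 hu) hv hxv, hR.comm x hx.1 u hu, inv_mul_cancel_left]
    exact hx.2
  · intro h
    have hc : v = (u⁻¹ * v) * u := by
      rw [hR.comm _ (mul_mem (inv_mem hu) hv) u hu, mul_inv_cancel_left]
    rw [hc, mul_smul]
    exact h.2 _ (hR.smul_ne_a hu)

theorem Reg.smul_conj {h u : G} (hh : h ∈ F.H) : h • u • F.b = (h * u * h⁻¹) • F.b := by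
  rw [mul_smul, mul_smul, show h⁻¹ • F.b = F.b by rw [inv_smul_eq_iff, (F.mem_H.1 hh).2]]

theorem Reg.cases {S : Subgroup G} (hS : S ≤ U) : S = ⊥ ∨ Nat.card S = p ∨ S = U := by
  obtain ⟨i, hi, hci⟩ := (Nat.dvd_prime_pow (Fact.out : p.Prime)).1
    ((Subgroup.card_dvd_of_le hS).trans (dvd_of_eq hR.card))
  interval_cases i
  · left; exact Subgroup.card_eq_one.1 (by rw [hci, pow_zero])
  · right; left; rw [hci, pow_one]
  · right; right; exact Subgroup.eq_of_le_of_card_ge hS (by rw [hci, hR.card])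

variable (hN : ∀ g ∈ F.Γ, ∀ u ∈ U, g * u * g⁻¹ ∈ U)
include hN

theorem Reg.smul_eq_iff {h u : G} (hh : h ∈ F.H) (hu : u ∈ U) :
    h • u • F.b = u • F.b ↔ h * u = u * h := by
  rw [hR.smul_conj hh]
  constructor
  · intro e
    rw [← mul_inv_eq_iff_eq_mul]
    exact hR.eq_of_smul (hN h (F.H_le hh) u hu) hu e
  · intro e
    rw [e, mul_inv_cancel_right]

theorem Reg.eq_one_of_centralize {h : G} (hh : h ∈ F.H) (hc : ∀ u ∈ U, h * u = u * h) :
    h = 1 := by
  refine eq_of_smul_eq_smul (α := Ω) fun y => ?_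
  rw [one_smul]
  by_cases hy : y = F.a
  · rw [hy, (F.mem_H.1 hh).1]
  obtain ⟨u, hu, rfl⟩ := hR.trans y hy
  exact (hR.smul_eq_iff hN hh hu).2 (hc u hu)

theorem Reg.eq_one_of_comm {h : G} (hh : h ∈ F.H) (hK : h ∈ F.K) {x : G} (hx : x ∈ U ⊓ F.K)
    (hx1 : x ≠ 1) (hc : h * x = x * h) : h = 1 := by
  refine hR.faithful hK F.hab.symm fun y hy => ?_
  obtain ⟨v, hv, rfl⟩ := hR.clsTrans _ _ hy
  obtain ⟨n, rfl⟩ := hR.pow_eq hx hx1 hv
  exact (hR.smul_eq_iff hN hh hv.1).2 ((show Commute h x from hc).pow_right n).eq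

theorem Reg.mem_K_of_fix {h u : G} (hh : h ∈ F.H) (hu : u ∈ U) (huK : u ∉ F.K)
    (hu' : u⁻¹ * (h * u * h⁻¹) ∈ F.K) : h ∈ F.K := by
  have hc : ∀ {v}, v ∈ U → h * v * h⁻¹ ∈ U := fun hv => hN h (F.H_le hh) _ hv
  let T : Subgroup G :=
    { carrier := {v | v ∈ U ∧ v⁻¹ * (h * v * h⁻¹) ∈ F.K}
      one_mem' := ⟨one_mem _, by simpa using one_mem F.K⟩
      mul_mem' := fun {v w} hv hw => ⟨mul_mem hv.1 hw.1, by
        rw [show (v * w)⁻¹ * (h * (v * w) * h⁻¹) =
          w⁻¹ * (v⁻¹ * (h * v * h⁻¹)) * (h * w * h⁻¹) by group,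
          hR.comm _ (inv_mem hw.1) _ (mul_mem (inv_mem hv.1) (hc hv.1)), mul_assoc]
        exact mul_mem hv.2 hw.2⟩
      inv_mem' := fun {v} hv => ⟨inv_mem hv.1, by
        rw [inv_inv, hR.comm _ hv.1 _ (hc (inv_mem hv.1)),
          show h * v⁻¹ * h⁻¹ * v = (v⁻¹ * (h * v * h⁻¹))⁻¹ by group]
        exact inv_mem hv.2⟩ }
  have hPT : U ⊓ F.K ≤ T := fun x hx =>
    ⟨hx.1, mul_mem (inv_mem hx.2) (F.conj_mem_K (F.H_le hh) hx.2)⟩
  have hTU : T = U := by
    rcases hR.cases (S := T) (fun v hv => hv.1) with h1 | h1 | h1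
    · refine absurd ?_ huK
      have hu1 : u ∈ T := ⟨hu, hu'⟩
      rw [h1, Subgroup.mem_bot] at hu1
      rw [hu1]
      exact one_mem _
    · refine absurd ?_ huK
      have heq := Subgroup.eq_of_le_of_card_ge hPT (by rw [h1, hR.cardP])
      have hu1 : u ∈ T := ⟨hu, hu'⟩
      rw [← heq] at hu1
      exact hu1.2
    · exact h1
  refine ⟨(F.mem_H.1 hh).1, fun y hy => ?_⟩
  obtain ⟨v, hv, rfl⟩ := hR.trans y hy
  rw [hR.smul_conj hh, hR.R_iff hv (hc hv)]
  have hvT : v ∈ T := by rw [hTU]; exact hv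
  exact hvT.2

omit hN in
theorem Reg.exists_notMem : ∃ u ∈ U, u ∉ F.K := by
  by_contra hcon
  push Not at hcon
  have h1 : U ⊓ F.K = U := inf_eq_left.2 hcon
  have h2 := hR.cardP
  rw [h1, hR.card, sq] at h2
  have hp := (Fact.out : p.Prime)
  have := Nat.eq_of_mul_eq_mul_left hp.pos (h2.trans (mul_one p).symm)
  exact hp.one_lt.ne this.symm

omit hN in
theorem Reg.exists_ne_one : ∃ x ∈ U ⊓ F.K, x ≠ 1 := by
  by_contra hcon
  push Not at hcon
  have h1 := hR.cardP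
  rw [(Subgroup.eq_bot_iff_forall _).2 hcon, Subgroup.card_bot] at h1
  exact (Fact.out : p.Prime).one_lt.ne h1

omit hN in
/-- The two-point stabiliser has even order. -/
theorem Reg.two_dvd_card_H (hp3 : 3 ≤ p) : 2 ∣ Nat.card F.H := by
  classical
  have _ := Fintype.ofFinite Ω
  have hp := (Fact.out : p.Prime)
  by_contra hodd
  have hpodd : Odd p := hp.odd_of_ne_two (by omega)
  have hΓ : Odd (Nat.card F.Γ) := by
    rw [F.card_Γ]
    exact hpodd.pow.mul (Nat.not_even_iff_odd.1 fun he => hodd (even_iff_two_dvd.1 he))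
  obtain ⟨j, hj⟩ := hpodd
  have h2G : 2 ∣ Nat.card G := by
    rw [F.card_G]
    exact (show 2 ∣ p ^ 2 + 1 from ⟨2 * j ^ 2 + 2 * j + 1, by rw [hj]; ring⟩).mul_right _
  obtain ⟨w, hw⟩ := exists_prime_orderOf_dvd_card' 2 h2G
  have : IsPretransitive G Ω := have := F.h2; isPretransitive_of_is_two_pretransitive
  have hnofix : ∀ x : Ω, w • x ≠ x := by
    intro x hx
    obtain ⟨g, rfl⟩ := exists_smul_eq G F.a x
    have hmem : g⁻¹ * w * g ∈ F.Γ := F.mem_Γ.2 (by rw [mul_smul, mul_smul, hx, inv_smul_smul])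
    have h1 : orderOf (⟨g⁻¹ * w * g, hmem⟩ : F.Γ) = 2 := by
      rw [← Subgroup.orderOf_coe]
      show orderOf (g⁻¹ * w * g) = 2
      rw [show g⁻¹ * w * g = MulAut.conj g⁻¹ w by simp, MulEquiv.orderOf_eq, hw]
    exact Nat.not_even_iff_odd.2 hΓ (even_iff_two_dvd.2 (h1.symm.dvd.trans (orderOf_dvd_natCard _)))
  let χ : G →* ℤˣ := Equiv.Perm.sign.comp (MulAction.toPermHom G Ω)
  have hχw : χ w = -1 := by
    have hw2 : (MulAction.toPermHom G Ω w) ^ 2 = 1 := by
      rw [← map_pow, ← hw, pow_orderOf_eq_one, map_one]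
    show Equiv.Perm.sign (MulAction.toPermHom G Ω w) = -1
    rw [Equiv.Perm.sign_of_pow_two_eq_one hw2]
    have h0 : Fintype.card (Function.fixedPoints (MulAction.toPermHom G Ω w)) = 0 := by
      rw [Fintype.card_eq_zero_iff]
      exact ⟨fun x => hnofix x.1 x.2⟩
    rw [h0, Nat.sub_zero, ← Nat.card_eq_fintype_card, F.hn]
    refine Odd.neg_one_pow ?_
    rw [hj, show (2 * j + 1) ^ 2 + 1 = 2 * (2 * (j ^ 2 + j) + 1) by ring,
      Nat.mul_div_cancel_left _ two_pos]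
    exact ⟨_, rfl⟩
  have hχΓ : ∀ g ∈ F.Γ, χ g = 1 := by
    intro g hg
    obtain ⟨k, hk⟩ := hΓ
    have h1 : g ^ Nat.card F.Γ = 1 :=
      congrArg Subtype.val (pow_card_eq_one' (x := (⟨g, hg⟩ : F.Γ)))
    have h2 : χ g ^ Nat.card F.Γ = 1 := by rw [← map_pow, h1, map_one]
    rwa [hk, pow_succ, pow_mul, Int.units_sq, one_pow, one_mul] at h2
  obtain ⟨u, hu, huK⟩ := hR.exists_notMem
  set m : G := w * u * w⁻¹ with hm
  have hχm : χ m = 1 := by
    rw [hm, map_mul, map_mul, hχΓ u (hR.le hu), mul_one, ← map_mul, mul_inv_cancel, map_one]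
  have hma : m • F.a ≠ F.a := by
    intro h
    apply huK
    rw [hm, mul_smul, mul_smul, ← eq_inv_smul_iff] at h
    have hne : w⁻¹ • F.a ≠ F.a := fun e => hnofix F.a (inv_smul_eq_iff.1 e).symm
    rw [hR.semireg u hu _ hne h]
    exact one_mem _
  obtain ⟨g, hg, hgw⟩ := F.exists_Γ_smul hma (hnofix F.a)
  have hmem : (g * m)⁻¹ * w ∈ F.Γ := F.mem_Γ.2 (by
    rw [mul_smul, ← hgw, mul_inv_rev, mul_smul, inv_smul_smul, inv_smul_smul])
  have h3 := hχΓ _ hmem
  rw [map_mul, map_inv, map_mul, hχΓ g hg, hχm, hχw, mul_one, inv_one, one_mul] at h3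
  exact absurd h3 (by decide)

/-- No involution of `G_{ab}` fixes only `a` and `b`. -/
theorem Reg.exists_comm (hp3 : 3 ≤ p) {z : G} (hz : z ∈ F.H) (hz2 : z * z = 1) :
    ∃ u ∈ U, u ≠ 1 ∧ z * u = u * z := by
  classical
  have hp := (Fact.out : p.Prime)
  by_contra hcon
  push Not at hcon
  have hfix : ∀ x, z • x = x → x = F.a ∨ x = F.b := by
    intro x hx
    by_cases hxa : x = F.a
    · exact Or.inl hxa
    obtain ⟨u, hu, rfl⟩ := hR.trans x hxa
    by_cases hu1 : u = 1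
    · rw [hu1, one_smul]; exact Or.inr rfl
    · exact absurd ((hR.smul_eq_iff hN hz hu).1 hx) (hcon u hu hu1)
  have hbig := card_le_two_mul_stabilizer F.h2 F.hab hz2 (F.mem_H.1 hz).1 (F.mem_H.1 hz).2 hfix
  rw [F.hn] at hbig
  change p ^ 2 + 1 - 2 ≤ 2 * Nat.card F.H at hbig
  -- the part of `H` in the kernel acts freely on `sec a b`
  obtain ⟨x0, hx0, hx01⟩ := hR.exists_ne_one
  have hd : x0 • F.b ∈ F.A.sec F.a F.b :=
    ⟨hx0.2.2 _ F.hab.symm, fun h => hx01 (hR.semireg _ hx0.1 _ F.hab.symm h)⟩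
  have hW : Nat.card (F.H ⊓ F.K : Subgroup G) ≤ p - 1 := by
    refine (Nat.card_le_card_of_injective (fun w : (F.H ⊓ F.K : Subgroup G) =>
      (⟨(w : G) • x0 • F.b, F.H_stable_sec w.2.1 hd⟩ : F.A.sec F.a F.b)) ?_).trans
      (le_of_eq ((Nat.card_coe_set_eq _).trans (F.A.ncard_sec F.hab.symm)))
    intro w w' he
    have he' : (w : G) • x0 • F.b = (w' : G) • x0 • F.b := congrArg Subtype.val he
    have hmem : (w' : G)⁻¹ * w ∈ F.H ⊓ F.K := mul_mem (inv_mem w'.2) w.2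
    have := hR.eq_one_of_comm hN hmem.1 hmem.2 hx0 hx01 ((hR.smul_eq_iff hN hmem.1 hx0.1).1
      (by rw [mul_smul, he', inv_smul_smul]))
    exact Subtype.ext (inv_mul_eq_one.1 this).symm
  -- the orbits of `H` on the other classes
  let B0 : F.Bl := F.blk F.b F.hab.symm
  let HΓ : Subgroup F.Γ := F.H.subgroupOf F.Γ
  have hB0 : ∀ h : HΓ, h • B0 = B0 := by
    intro h
    show (h : F.Γ) • B0 = B0
    rw [F.smul_blk, F.blk_eq_iff]
    show F.A.R F.a (((h : F.Γ) : G) • F.b) F.b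
    rw [(F.mem_H.1 (show ((h : F.Γ) : G) ∈ F.H from h.2)).2]
    exact F.A.refl' F.hab.symm
  have hKmem : ∀ B : F.Bl, B ≠ B0 → ∀ h : HΓ, h • B = B → ((h : F.Γ) : G) ∈ F.K := by
    intro B hB h hh
    obtain ⟨y, hy, rfl⟩ := F.exists_blk B
    obtain ⟨u, hu, rfl⟩ := hR.trans y hy
    have hH : ((h : F.Γ) : G) ∈ F.H := h.2
    change (h : F.Γ) • F.blk (u • F.b) hy = _ at hh
    rw [F.smul_blk, F.blk_eq_iff] at hh
    change F.A.R F.a (((h : F.Γ) : G) • u • F.b) (u • F.b) at hh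
    rw [hR.smul_conj hH] at hh
    refine hR.mem_K_of_fix hN hH hu (fun huK => hB ?_)
      ((hR.R_iff hu (hN _ (F.H_le hH) _ hu)).1 (F.A.symm' hh))
    rw [F.blk_eq_iff]
    exact F.A.symm' (huK.2 F.b F.hab.symm)
  have horb : ∀ B : F.Bl, B ≠ B0 →
      Nat.card F.H = (orbit HΓ B).ncard * Nat.card (F.H ⊓ F.K : Subgroup G) := by
    intro B hB
    have h1 := (stabilizer HΓ B).index_mul_card
    rw [index_stabilizer, show Nat.card (stabilizer HΓ B) = Nat.card (F.H ⊓ F.K : Subgroup G) from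
      Nat.card_congr
        { toFun := fun g => ⟨g.1.1.1, g.1.2, hKmem B hB g.1 g.2⟩
          invFun := fun g => ⟨⟨⟨g.1, F.H_le g.2.1⟩, g.2.1⟩,
            (F.smul_bl_eq_iff_mem_K ⟨g.1, F.H_le g.2.1⟩).2 g.2.2 B⟩
          left_inv := fun _ => rfl
          right_inv := fun _ => rfl },
      show Nat.card HΓ = Nat.card F.H from
        Nat.card_congr (Subgroup.subgroupOfEquivOfLe F.H_le).toEquiv] at h1
    exact h1.symm
  have hne0 : ∀ B : F.Bl, B ≠ B0 → orbit HΓ B ⊆ Set.univ \ {B0} := by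
    rintro B hB _ ⟨h, rfl⟩
    refine ⟨Set.mem_univ _, fun e => hB ?_⟩
    exact MulAction.injective h ((show h • B = B0 from e).trans (hB0 h).symm)
  have hcompl : (Set.univ \ {B0} : Set F.Bl).ncard = p - 1 := by
    rw [Set.ncard_sdiff_singleton_of_mem (Set.mem_univ _), Set.ncard_univ, F.card_Bl]
  obtain ⟨u1, hu1, hu1K⟩ := hR.exists_notMem
  let B1 : F.Bl := F.blk (u1 • F.b) (hR.smul_ne_a hu1)
  have hB1 : B1 ≠ B0 := by
    intro e
    have h0 := F.A.symm' ((F.blk_eq_iff _ _).1 e)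
    have h1 := (hR.R_iff (one_mem U) hu1).1 (by rwa [one_smul])
    rw [inv_one, one_mul] at h1
    exact hu1K h1
  have harith : p ^ 2 + 1 - 2 ≤ 2 * ((orbit HΓ B1).ncard * Nat.card (F.H ⊓ F.K : Subgroup G)) := by
    rw [← horb B1 hB1]
    exact hbig
  obtain ⟨q, rfl⟩ : ∃ q, p = q + 1 := ⟨p - 1, by omega⟩
  rw [show (q + 1) ^ 2 = q * (q + 2) + 1 by ring,
    show q * (q + 2) + 1 + 1 - 2 = q * (q + 2) by omega] at harith
  simp only [Nat.add_sub_cancel] at hW hcompl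
  by_cases htr : ∀ B : F.Bl, B ≠ B0 → B ∈ orbit HΓ B1
  · have hbot : (F.H ⊓ F.K : Subgroup G) = ⊥ := by
      refine (Subgroup.eq_bot_iff_forall _).2 fun k hk => hR.inf_H_eq_bot ?_ hk.2 (F.mem_H.1 hk.1).2
      intro y w hy hw hy' hw'
      obtain ⟨g1, hg1⟩ := htr (F.blk y hy) fun e => hy' (F.A.symm' ((F.blk_eq_iff hy _).1 e))
      obtain ⟨g2, hg2⟩ := htr (F.blk w hw) fun e => hw' (F.A.symm' ((F.blk_eq_iff hw _).1 e))
      have hg : (g2 * g1⁻¹) • F.blk y hy = F.blk w hw := by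
        rw [← hg1, ← hg2]
        exact (mul_smul g2 g1⁻¹ _).trans (congrArg (g2 • ·) (inv_smul_smul g1 B1))
      change ((g2 * g1⁻¹ : HΓ) : F.Γ) • F.blk y hy = _ at hg
      rw [F.smul_blk, F.blk_eq_iff] at hg
      exact ⟨_, (g2 * g1⁻¹).2, hg⟩
    rw [hbot, Subgroup.card_bot, mul_one] at harith
    have := (Set.ncard_le_ncard (hne0 B1 hB1) (Set.toFinite _)).trans hcompl.le
    nlinarith
  · push Not at htr
    obtain ⟨B2, hB2, hB2'⟩ := htr
    have heq : (orbit HΓ B2).ncard = (orbit HΓ B1).ncard :=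
      Nat.eq_of_mul_eq_mul_right Nat.card_pos ((horb B2 hB2).symm.trans (horb B1 hB1))
    have hdis : Disjoint (orbit HΓ B1) (orbit HΓ B2) := by
      rw [Set.disjoint_left]
      intro B h1 h2
      exact hB2' (orbit_eq_iff.1 ((orbit_eq_iff.2 h2).symm.trans (orbit_eq_iff.2 h1)))
    have h2e := (Set.ncard_le_ncard (Set.union_subset (hne0 B1 hB1) (hne0 B2 hB2))
      (Set.toFinite _)).trans hcompl.le
    rw [Set.ncard_union_eq hdis (Set.toFinite _) (Set.toFinite _), heq] at h2e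
    have hmul := Nat.mul_le_mul h2e hW
    nlinarith

/-- For odd `p` the subgroup `U` is not normal in `G_a`. -/
theorem Reg.false_of_normal (hp3 : 3 ≤ p) : False := by
  classical
  have hp := (Fact.out : p.Prime)
  obtain ⟨z0, hz0⟩ := exists_prime_orderOf_dvd_card' 2 (hR.two_dvd_card_H hp3)
  let Inv : G → Prop := fun z => z ∈ F.H ∧ z * z = 1 ∧ z ≠ 1
  let Cu : G → Subgroup G := fun z => U ⊓ Subgroup.centralizer {z}
  have hCu : ∀ {z u : G}, u ∈ Cu z ↔ u ∈ U ∧ z * u = u * z := by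
    intro z u
    simp only [Cu, Subgroup.mem_inf, Subgroup.mem_centralizer_singleton_iff]
    exact ⟨fun h => ⟨h.1, h.2.symm⟩, fun h => ⟨h.1, h.2.symm⟩⟩
  have hcardC : ∀ z, Inv z → Nat.card (Cu z) = p := by
    rintro z ⟨hz, hz2, hz1⟩
    rcases hR.cases (S := Cu z) inf_le_left with h | h | h
    · obtain ⟨u, hu, hu1, hc⟩ := hR.exists_comm hN hp3 hz hz2
      have : u ∈ Cu z := hCu.2 ⟨hu, hc⟩
      rw [h, Subgroup.mem_bot] at this
      exact absurd this hu1
    · exact h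
    · refine absurd (hR.eq_one_of_centralize hN hz fun u hu => ?_) hz1
      rw [← h] at hu
      exact (hCu.1 hu).2
  -- the two types of involutions
  have hD : ∀ z, Inv z → ∀ x ∈ U ⊓ F.K, x ≠ 1 → z * x = x * z → z ∉ F.K ∧ Cu z = U ⊓ F.K := by
    intro z hz x hx hx1 hc
    refine ⟨fun hK => hz.2.2 (hR.eq_one_of_comm hN hz.1 hK hx hx1 hc),
      (Subgroup.eq_of_le_of_card_ge (fun y hy => ?_) (by rw [hcardC z hz, hR.cardP])).symm⟩
    obtain ⟨n, rfl⟩ := hR.pow_eq hx hx1 hy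
    exact hCu.2 ⟨hy.1, ((show Commute z x from hc).pow_right n).eq⟩
  have hW : ∀ z, Inv z → (∀ x ∈ U ⊓ F.K, z * x = x * z → x = 1) → z ∈ F.K := by
    intro z hz hno
    obtain ⟨u, hu, hu1, hc⟩ := hR.exists_comm hN hp3 hz.1 hz.2.1
    refine hR.mem_K_of_fix hN hz.1 hu (fun h => hu1 (hno u ⟨hu, h⟩ hc)) ?_
    rw [hc, mul_inv_cancel_right, inv_mul_cancel]
    exact one_mem _
  have htype : ∀ z, Inv z →
      ((∀ x ∈ U ⊓ F.K, z * x = x * z) ∧ z ∉ F.K ∧ Cu z = U ⊓ F.K) ∨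
        ((∀ x ∈ U ⊓ F.K, z * x = x * z → x = 1) ∧ z ∈ F.K) := by
    intro z hz
    by_cases h : ∀ x ∈ U ⊓ F.K, z * x = x * z → x = 1
    · exact Or.inr ⟨h, hW z hz h⟩
    push Not at h
    obtain ⟨x, hx, hc, hx1⟩ := h
    obtain ⟨h1, h2⟩ := hD z hz x hx hx1 hc
    refine Or.inl ⟨fun y hy => ?_, h1, h2⟩
    rw [← h2] at hy
    exact (hCu.1 hy).2
  have hinvz : ∀ {z}, Inv z → z⁻¹ = z := fun hz => inv_eq_of_mul_eq_one_right hz.2.1
  have hprodU : ∀ z, Inv z → ∀ u ∈ U, u * (z * u * z⁻¹) ∈ Cu z := by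
    intro z hz u hu
    have h1 := hN z (F.H_le hz.1) u hu
    refine hCu.2 ⟨mul_mem hu h1, ?_⟩
    rw [← mul_inv_eq_iff_eq_mul]
    calc z * (u * (z * u * z⁻¹)) * z⁻¹ = (z * u * z⁻¹) * ((z * z) * u * (z * z)⁻¹) := by group
      _ = (z * u * z⁻¹) * u := by rw [hz.2.1, one_mul, inv_one, mul_one]
      _ = u * (z * u * z⁻¹) := (hR.comm u hu _ h1).symm
  have hinvert : ∀ z, Inv z → (∀ x ∈ U ⊓ F.K, z * x = x * z → x = 1) →
      ∀ x ∈ U ⊓ F.K, z * x * z⁻¹ = x⁻¹ := by
    intro z hz hno x hx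
    have h1 := hprodU z hz x hx.1
    exact (inv_eq_of_mul_eq_one_right
      (hno _ ⟨(hCu.1 h1).1, mul_mem hx.2 (F.conj_mem_K (F.H_le hz.1) hx.2)⟩ (hCu.1 h1).2)).symm
  obtain ⟨x0, hx0, hx01⟩ := hR.exists_ne_one
  obtain ⟨u0, hu0, hu0K⟩ := hR.exists_notMem
  have hcentr : ∀ v ∈ F.H, v ∈ F.K → v * x0 * v⁻¹ = x0 → v = 1 := fun v hv hvK hc =>
    hR.eq_one_of_comm hN hv hvK hx0 hx01 (mul_inv_eq_iff_eq_mul.1 hc)
  have huniq : ∀ z z', Inv z → Inv z' → z = z' := by
    intro z z' hz hz'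
    suffices z * z' = 1 by rw [eq_inv_of_mul_eq_one_left this, hinvz hz']
    have hv : z * z' ∈ F.H := mul_mem hz.1 hz'.1
    have hmixed : ∀ z z', Inv z → Inv z' → (∀ x ∈ U ⊓ F.K, z * x = x * z) → z ∉ F.K →
        (∀ x ∈ U ⊓ F.K, z' * x = x * z' → x = 1) → z' ∈ F.K → False := by
      intro z z' hz hz' hc hzK hno hz'K
      have hv : z * z' ∈ F.H := mul_mem hz.1 hz'.1
      have hvx : (z * z') * x0 * (z * z')⁻¹ = x0⁻¹ := by
        rw [show (z * z') * x0 * (z * z')⁻¹ = z * (z' * x0 * z'⁻¹) * z⁻¹ by group,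
          hinvert z' hz' hno x0 hx0, hc _ (inv_mem hx0), mul_inv_cancel_right]
      have hv2 : (z * z') * (z * z') = 1 := by
        refine hcentr _ (mul_mem hv hv) ?_ ?_
        · have h1 := F.conj_mem_K (F.H_le hz.1) hz'K
          rw [hinvz hz] at h1
          rw [show z * z' * (z * z') = z * z' * z * z' by group]
          exact mul_mem h1 hz'K
        · rw [show z * z' * (z * z') * x0 * (z * z' * (z * z'))⁻¹ =
            (z * z') * ((z * z') * x0 * (z * z')⁻¹) * (z * z')⁻¹ by group, hvx,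
            show z * z' * x0⁻¹ * (z * z')⁻¹ = ((z * z') * x0 * (z * z')⁻¹)⁻¹ by group, hvx, inv_inv]
      have hv1 : z * z' ≠ 1 := fun e => hzK (by
        rw [eq_inv_of_mul_eq_one_left e]; exact inv_mem hz'K)
      rcases htype _ ⟨hv, hv2, hv1⟩ with ⟨h, -, -⟩ | ⟨-, h⟩
      · rw [h x0 hx0, mul_inv_cancel_right] at hvx
        have h2 : x0 ^ 2 = 1 := by rw [sq]; exact mul_eq_one_iff_eq_inv.2 hvx
        have h3 : x0 ^ p = 1 := by
          rw [← hR.cardP]
          exact congrArg Subtype.val (pow_card_eq_one' (x := (⟨x0, hx0⟩ : (U ⊓ F.K : Subgroup G))))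
        obtain ⟨k, hk⟩ := hp.odd_of_ne_two (by omega)
        rw [hk, pow_succ, pow_mul, h2, one_pow, one_mul] at h3
        exact hx01 h3
      · apply hzK
        have := mul_mem h (inv_mem hz'K)
        rwa [mul_inv_cancel_right] at this
    rcases htype z hz with ⟨hc, hzK, hzC⟩ | ⟨hno, hzK⟩ <;>
      rcases htype z' hz' with ⟨hc', hz'K, hz'C⟩ | ⟨hno', hz'K⟩
    · refine hcentr _ hv ?_ ?_
      · refine hR.mem_K_of_fix hN hv hu0 hu0K ?_
        have h1 := hprodU z hz u0⁻¹ (inv_mem hu0)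
        have h2 := hprodU z' hz' u0 hu0
        rw [hzC] at h1
        rw [hz'C] at h2
        rw [show u0⁻¹ * (z * z' * u0 * (z * z')⁻¹) =
          (u0⁻¹ * (z * u0⁻¹ * z⁻¹)) * (z * (u0 * (z' * u0 * z'⁻¹)) * z⁻¹) by group]
        exact mul_mem h1.2 (F.conj_mem_K (F.H_le hz.1) h2.2)
      · rw [show (z * z') * x0 * (z * z')⁻¹ = z * (z' * x0 * z'⁻¹) * z⁻¹ by group,
          hc' x0 hx0, mul_inv_cancel_right, hc x0 hx0, mul_inv_cancel_right]
    · exact (hmixed z z' hz hz' hc hzK hno' hz'K).elim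
    · exact (hmixed z' z hz' hz hc' hz'K hno hzK).elim
    · refine hcentr _ hv (mul_mem hzK hz'K) ?_
      rw [show (z * z') * x0 * (z * z')⁻¹ = z * (z' * x0 * z'⁻¹) * z⁻¹ by group,
        hinvert z' hz' hno' x0 hx0, hinvert z hz hno _ (inv_mem hx0), inv_inv]
  obtain ⟨z, hz⟩ : ∃ z, Inv z := by
    refine ⟨(z0 : G), z0.2, ?_, fun h => ?_⟩
    · have h1 := pow_orderOf_eq_one z0
      rw [hz0, sq] at h1
      exact congrArg Subtype.val h1
    · rw [orderOf_eq_one_iff.2 (Subtype.ext h)] at hz0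
      exact absurd hz0 (by norm_num)
  obtain ⟨s, hs, hs'⟩ := F.exists_swap
  have hcentral : ∀ g : G, g * z * g⁻¹ ∈ F.H → g * z = z * g := fun g hg =>
    mul_inv_eq_iff_eq_mul.1 (huniq _ z ⟨hg,
      by rw [show g * z * g⁻¹ * (g * z * g⁻¹) = g * (z * z) * g⁻¹ by group, hz.2.1, mul_one,
        mul_inv_cancel],
      fun e => hz.2.2 (conj_eq_one_iff.1 e)⟩ hz)
  have hsz := hcentral s (F.swap_conj hs hs' hz.1)
  have hza := (F.mem_H.1 hz.1).1
  rcases htype z hz with ⟨-, -, hzC⟩ | ⟨-, -⟩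
  · refine false_of_fix_cls hs hs' hsz fun x => ⟨fun hx => ?_, ?_⟩
    · by_cases hxa : x = F.a
      · exact Or.inl hxa
      obtain ⟨u, hu, rfl⟩ := hR.trans x hxa
      have hu' : u ∈ Cu z := hCu.2 ⟨hu, (hR.smul_eq_iff hN hz.1 hu).1 hx⟩
      rw [hzC] at hu'
      exact Or.inr (hu'.2.2 F.b F.hab.symm)
    · rintro (rfl | hx)
      · exact hza
      obtain ⟨u, hu, rfl⟩ := hR.clsTrans _ _ hx
      have hu' : u ∈ Cu z := by rw [hzC]; exact hu
      exact (hR.smul_eq_iff hN hz.1 hu.1).2 (hCu.1 hu').2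
  · -- the orbits of the centraliser of `z` give another apex relation
    set L : Subgroup G := Cu z with hL
    let r : Ω → Ω → Prop := fun y w => y ≠ F.a ∧ ∃ l ∈ L, l • y = w
    have hLU : L ≤ U := inf_le_left
    have hconj : ∀ g ∈ F.Γ, ∀ l ∈ L, g * l * g⁻¹ ∈ L := by
      intro g hg l hl
      obtain ⟨u, hu, hub⟩ := hR.trans (g • F.b) (F.smul_ne hg F.hab.symm)
      have hh : u⁻¹ * g ∈ F.H := F.mem_H.2
        ⟨F.mem_Γ.1 (mul_mem (inv_mem (hR.le hu)) hg), by rw [mul_smul, ← hub, inv_smul_smul]⟩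
      set h : G := u⁻¹ * g with hh'
      have hzh := hcentral h (mul_mem (mul_mem hh hz.1) (inv_mem hh))
      have hmem : h * l * h⁻¹ ∈ L := hCu.2 ⟨hN h (F.H_le hh) l (hLU hl), by
        have hzl : Commute z l := (hCu.1 hl).2
        exact ((show Commute z h from hzh.symm).mul_right hzl).mul_right
          (show Commute z h from hzh.symm).inv_right⟩
      have heq : g * l * g⁻¹ = u * (h * l * h⁻¹) * u⁻¹ := by rw [hh']; group
      rw [heq, hR.comm u hu _ (hLU hmem), mul_inv_cancel_right]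
      exact hmem
    have : IsPretransitive G Ω := have := F.h2; isPretransitive_of_is_two_pretransitive
    have hinvr : ∀ g : G, g • F.a = F.a → ∀ {y w}, r y w → r (g • y) (g • w) := by
      rintro g hg y w ⟨hy, l, hl, rfl⟩
      refine ⟨F.smul_ne (F.mem_Γ.2 hg) hy, g * l * g⁻¹, hconj g (F.mem_Γ.2 hg) l hl, ?_⟩
      rw [mul_smul, mul_smul, inv_smul_smul]
    let A' : ApexRel G Ω p := ApexRel.mk' F.a r (fun h => h.1)
      (fun hy => ⟨hy, 1, one_mem _, one_smul _ _⟩)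
      (fun {y w} h => by
        obtain ⟨hy, l, hl, rfl⟩ := h
        exact ⟨F.smul_ne (hR.le (hLU hl)) hy, l⁻¹, inv_mem hl, inv_smul_smul _ _⟩)
      (fun {y w v} h h' => by
        obtain ⟨hy, l, hl, rfl⟩ := h
        obtain ⟨-, l', hl', rfl⟩ := h'
        exact ⟨hy, l' * l, mul_mem hl' hl, mul_smul _ _ _⟩)
      hinvr
      (fun {y} hy => by
        rw [← Nat.card_coe_set_eq, ← hcardC z hz]
        refine (Nat.card_eq_of_bijective (fun l : L => (⟨(l : G) • y, hy, l, l.2, rfl⟩ :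
          ({w | r y w} : Set Ω))) ⟨fun l l' e => ?_, ?_⟩).symm
        · have e' : (l : G) • y = (l' : G) • y := congrArg Subtype.val e
          exact Subtype.ext (inv_mul_eq_one.1 (hR.semireg _ (mul_mem (inv_mem (hLU l'.2)) (hLU l.2))
            y hy (by rw [mul_smul, e', inv_smul_smul]))).symm
        · rintro ⟨_, -, l, hl, rfl⟩
          exact ⟨⟨l, hl⟩, rfl⟩)
    let F' : Frame G Ω p := { F with A := A' }
    refine false_of_fix_cls (F := F') hs hs' hsz fun x => ⟨fun hx => ?_, ?_⟩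
    · by_cases hxa : x = F.a
      · exact Or.inl hxa
      obtain ⟨u, hu, rfl⟩ := hR.trans x hxa
      refine Or.inr ⟨1, one_smul _ _, ?_⟩
      rw [inv_one, one_smul, one_smul]
      exact ⟨F.hab.symm, u, hCu.2 ⟨hu, (hR.smul_eq_iff hN hz.1 hu).1 hx⟩, rfl⟩
    · rintro (rfl | ⟨g, hg, h⟩)
      · exact hza
      have h' := hinvr g hg h
      rw [smul_inv_smul, smul_inv_smul] at h'
      obtain ⟨-, l, hl, hlx⟩ := h'
      change l • F.b = x at hlx
      rw [← hlx]
      exact (hR.smul_eq_iff hN hz.1 (hLU hl)).2 (hCu.1 hl).2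

end Frame

end Cfsg.Agent.Perm.SquarePlusOne
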