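import Cfsg.Agent.Lib.Perm.SquarePlusOne.SylowFrame

/-! The regular subgroup `U` and the faithful action of the block kernel on each class. -/

set_option autoImplicit false
set_option linter.unusedSectionVars false

namespace Cfsg.Agent.Perm.SquarePlusOne

open MulAction

namespace Frame

variable {G Ω : Type*} [Group G] [MulAction G Ω] {p : ℕ} (F : Frame G Ω p)

/-- A regular `p`-subgroup of `G_a` together with its block kernel. -/
structure Reg (U : Subgroup G) : Prop where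
  le : U ≤ F.Γ
  card : Nat.card U = p ^ 2
  trans : ∀ y, y ≠ F.a → ∃ u ∈ U, u • F.b = y
  semireg : ∀ u ∈ U, ∀ y, y ≠ F.a → u • y = y → u = 1
  comm : ∀ u ∈ U, ∀ v ∈ U, u * v = v * u
  cardP : Nat.card (U ⊓ F.K : Subgroup G) = p
  clsTrans : ∀ y z, F.A.R F.a y z → ∃ x ∈ U ⊓ F.K, x • y = z
  notDvd : ¬ p ∣ Nat.card F.H

variable [Finite G] [Finite Ω] [FaithfulSMul G Ω] [Fact p.Prime]

omit [Finite Ω] in
theorem eq_one_of_pow (hH : ¬ p ∣ Nat.card F.H) {x : G} (hx : x ∈ F.Γ) {n : ℕ} (hpow : x ^ p ^ n = 1)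
    {y : Ω} (hy : y ≠ F.a) (hfix : x • y = y) : x = 1 := by
  obtain ⟨g, hg, rfl⟩ := F.exists_Γ_smul F.hab.symm hy
  have hmem : g⁻¹ * x * g ∈ F.H := by
    refine F.mem_H.2 ⟨?_, ?_⟩
    · rw [mul_smul, mul_smul, F.mem_Γ.1 hg, F.mem_Γ.1 hx, inv_smul_eq_iff, F.mem_Γ.1 hg]
    · rw [mul_smul, mul_smul, hfix, inv_smul_smul]
  have h1 : (⟨g⁻¹ * x * g, hmem⟩ : F.H) ^ p ^ n = 1 := Subtype.ext (by
    rw [Subgroup.coe_pow, Subgroup.coe_one]
    have : g⁻¹ * x * g = MulAut.conj g⁻¹ x := by simp [mul_assoc]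
    show (g⁻¹ * x * g) ^ p ^ n = 1
    rw [this, ← map_pow, hpow, map_one])
  have h2 : (⟨g⁻¹ * x * g, hmem⟩ : F.H) = 1 := by
    rw [← orderOf_eq_one_iff]
    obtain ⟨m, -, hm⟩ := (Nat.dvd_prime_pow (Fact.out : p.Prime)).1 (orderOf_dvd_of_pow_eq_one h1)
    rcases Nat.eq_zero_or_pos m with rfl | hmpos
    · rw [hm, pow_zero]
    · exact absurd ((dvd_pow_self p hmpos.ne').trans (hm ▸ orderOf_dvd_natCard _)) hH
  have h3 : g⁻¹ * x * g = 1 := congrArg Subtype.val h2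
  calc x = g * (g⁻¹ * x * g) * g⁻¹ := by group
    _ = 1 := by rw [h3]; group

theorem exists_reg : ∃ U : Subgroup G, F.Reg U := by
  obtain ⟨U, hle, hU, htr, hcard, hQcard⟩ := F.exists_sylow
  have hH := F.not_dvd_card_H
  rw [Nat.factorization_eq_zero_of_not_dvd hH, pow_zero] at hQcard
  rw [hQcard, mul_one] at hcard
  have hP := card_inf_K hle hU htr
  rw [hcard, sq] at hP
  have := IsPGroup.isMulCommutative_of_card_eq_prime_sq hcard
  refine ⟨U, hle, hcard, htr, fun u hu y hy h => ?_, fun u hu v hv => ?_,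
    (Nat.eq_of_mul_eq_mul_left (Fact.out : p.Prime).pos hP).symm,
    fun y z hz => exists_inf_K_smul hle hU htr (dvd_of_eq hcard.symm) hz, hH⟩
  · refine F.eq_one_of_pow hH (hle hu) (n := 2) ?_ hy h
    rw [← hcard]
    exact congrArg Subtype.val (pow_card_eq_one' (x := (⟨u, hu⟩ : U)))
  · exact congrArg Subtype.val (mul_comm' (⟨u, hu⟩ : U) ⟨v, hv⟩)

variable {F} {U : Subgroup G} (hR : F.Reg U)
include hR

omit [Finite G] [FaithfulSMul G Ω] in
theorem Reg.card_stab_K {y : Ω} (hy : y ≠ F.a) :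
    Nat.card F.K = p * Nat.card (F.K ⊓ stabilizer G y : Subgroup G) := by
  have horb : orbit F.K y = F.A.cls F.a y := by
    ext z
    constructor
    · rintro ⟨x, rfl⟩
      exact F.K_stable x.2 (F.A.refl' hy)
    · intro hz
      obtain ⟨x, hx, rfl⟩ := hR.clsTrans y z hz
      exact ⟨⟨x, hx.2⟩, rfl⟩
  have h := (stabilizer F.K y).index_mul_card
  have hc : (F.A.cls F.a y).ncard = p := F.A.card' hy
  rw [index_stabilizer, horb, hc] at h
  rw [← h]
  congr 1
  exact Nat.card_congr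
    { toFun := fun g => ⟨g.1.1, g.1.2, g.2⟩
      invFun := fun g => ⟨⟨g.1, g.2.1⟩, g.2.2⟩
      left_inv := fun _ => rfl
      right_inv := fun _ => rfl }

omit [Finite Ω] [FaithfulSMul G Ω] in
/-- The kernel part of `U` is generated by any of its nontrivial elements. -/
theorem Reg.pow_eq {x z : G} (hx : x ∈ U ⊓ F.K) (hx1 : x ≠ 1) (hz : z ∈ U ⊓ F.K) :
    ∃ n : ℕ, x ^ n = z := by
  have hmem : (⟨z, hz⟩ : (U ⊓ F.K : Subgroup G)) ∈ Subgroup.zpowers ⟨x, hx⟩ := by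
    rw [zpowers_eq_top_of_prime_card hR.cardP (fun h => hx1 (congrArg Subtype.val h))]
    exact Subgroup.mem_top _
  rw [← mem_powers_iff_mem_zpowers, Submonoid.mem_powers_iff] at hmem
  obtain ⟨n, hn⟩ := hmem
  exact ⟨n, by simpa using congrArg Subtype.val hn⟩

/-- The block kernel is faithful on each class. -/
theorem Reg.faithful {k : G} (hk : k ∈ F.K) {y : Ω} (hy : y ≠ F.a)
    (hfix : ∀ z, F.A.R F.a y z → k • z = z) : k = 1 := by
  let N : Subgroup G :=
    { carrier := {g | g ∈ F.K ∧ ∀ z, F.A.R F.a y z → g • z = z}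
      one_mem' := ⟨one_mem _, fun z _ => one_smul _ _⟩
      mul_mem' := fun hg hh => ⟨mul_mem hg.1 hh.1, fun z hz => by rw [mul_smul, hh.2 z hz, hg.2 z hz]⟩
      inv_mem' := fun hg => ⟨inv_mem hg.1, fun z hz => by rw [inv_smul_eq_iff, hg.2 z hz]⟩ }
  have hN : ¬ p ∣ Nat.card N := by
    intro hdvd
    obtain ⟨x, hx⟩ := exists_prime_orderOf_dvd_card' p hdvd
    have hxp : (x : G) ^ p ^ 1 = 1 := by
      rw [pow_one, ← hx, ← Subgroup.coe_pow, pow_orderOf_eq_one]; rfl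
    have : x = 1 := Subtype.ext
      (F.eq_one_of_pow hR.notDvd (F.K_le x.2.1) hxp hy (x.2.2 y (F.A.refl' hy)))
    rw [this, orderOf_one] at hx
    exact (Fact.out : p.Prime).ne_one hx.symm
  have hall : ∀ g ∈ N, ∀ w, w ≠ F.a → g • w = w := by
    intro g hg w hw
    have hnorm : ∀ x ∈ F.K, ∀ m ∈ N, x * m * x⁻¹ ∈ N := by
      intro x hx m hm
      refine ⟨mul_mem (mul_mem hx hm.1) (inv_mem hx), fun z hz => ?_⟩
      rw [mul_smul, mul_smul, hm.2 _ (F.K_stable (inv_mem hx) hz), smul_inv_smul]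
    let Cl : SubMulAction F.K Ω :=
      { carrier := F.A.cls F.a w
        smul_mem' := fun x {z} hz => F.K_stable x.2 hz }
    let M : Subgroup F.K := N.subgroupOf F.K
    have : M.Normal := ⟨fun m hm x => hnorm x x.2 m hm⟩
    have : IsPretransitive F.K Cl := ⟨fun u v => by
      obtain ⟨x, hx, hxu⟩ := hR.clsTrans u v (F.A.trans' (F.A.symm' u.2) v.2)
      exact ⟨⟨x, hx.2⟩, Subtype.ext hxu⟩⟩
    let w' : Cl := ⟨w, F.A.refl' hw⟩
    have hd : (orbit M w').ncard ∣ p := by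
      have := (IsBlock.orbit_of_normal (N := M) w').ncard_dvd_card (nonempty_orbit w')
      have hc : Nat.card Cl = p := (Nat.card_coe_set_eq (F.A.cls F.a w)).trans (F.A.card' hw)
      rwa [hc] at this
    have hd2 : (orbit M w').ncard ∣ Nat.card N := by
      rw [← index_stabilizer]
      refine (Subgroup.index_dvd_card _).trans ?_
      exact dvd_of_eq (Nat.card_congr (Subgroup.subgroupOfEquivOfLe
        (show N ≤ F.K from fun g (hg : g ∈ N) => And.left (a := g ∈ F.K) hg)).toEquiv)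
    rcases (Nat.dvd_prime (Fact.out : p.Prime)).1 hd with h1 | h1
    · obtain ⟨v, hv⟩ := Set.ncard_eq_one.1 h1
      have e1 : (⟨⟨g, hg.1⟩, hg⟩ : M) • w' ∈ orbit M w' := mem_orbit _ _
      have e2 : w' ∈ orbit M w' := mem_orbit_self _
      rw [hv] at e1 e2
      exact congrArg Subtype.val (e1.trans e2.symm)
    · exact absurd (h1 ▸ hd2) hN
  refine eq_of_smul_eq_smul (α := Ω) fun w => ?_
  rw [one_smul]
  by_cases hwa : w = F.a
  · rw [hwa]; exact hk.1
  · exact hall k ⟨hk, hfix⟩ w hwa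

/-- A point stabiliser of the block kernel fixing a second point of the class is trivial. -/
theorem Reg.eq_one_of_fix_two {e c : Ω} (hc : F.A.R F.a e c) (hne : e ≠ c)
    (hsub : ∀ k ∈ F.K, k • e = e → k • c = c) {k : G} (hk : k ∈ F.K) (hke : k • e = e) : k = 1 := by
  obtain ⟨x, hx, hxe⟩ := hR.clsTrans e c hc
  have hx1 : x ≠ 1 := fun h => hne (by rw [← hxe, h, one_smul])
  have hpow : ∀ (n : ℕ) (k : G), k ∈ F.K → k • e = e → k • x ^ n • e = x ^ n • e := by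
    intro n
    induction n with
    | zero => intro k _ h; rw [pow_zero, one_smul, h]
    | succ n ih =>
      intro k hk h
      have hk' : x⁻¹ * k * x ∈ F.K := mul_mem (mul_mem (inv_mem hx.2) hk) hx.2
      have hfix' : (x⁻¹ * k * x) • e = e := by
        rw [mul_smul, mul_smul, hxe, hsub k hk h, ← hxe, inv_smul_smul]
      have := ih _ hk' hfix'
      rw [mul_smul, mul_smul, inv_smul_eq_iff] at this
      rw [pow_succ', mul_smul]
      exact this
  refine hR.faithful hk (F.A.ne' hc) fun z hz => ?_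
  obtain ⟨y, hy, rfl⟩ := hR.clsTrans e z hz
  obtain ⟨n, rfl⟩ := hR.pow_eq hx hx1 hy
  exact hpow n k hk hke

omit [FaithfulSMul G Ω] in
/-- An `H`-stable set of `p - 1` points meeting the outside of the class of `b` has exactly one
point in each other class, when `H` is transitive on those classes. -/
theorem Reg.transversal (htr : ∀ y z, y ≠ F.a → z ≠ F.a → ¬ F.A.R F.a F.b y → ¬ F.A.R F.a F.b z →
      ∃ h ∈ F.H, F.A.R F.a (h • y) z)
    (T : Set Ω) (hT : ∀ h ∈ F.H, ∀ x ∈ T, h • x ∈ T) (hTa : F.a ∉ T) (hcard : T.ncard = p - 1)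
    {x0 : Ω} (hx0 : x0 ∈ T) (hx0' : ¬ F.A.R F.a F.b x0) :
    (∀ x ∈ T, ¬ F.A.R F.a F.b x) ∧
      (∀ y, y ≠ F.a → ¬ F.A.R F.a F.b y → ∃ x ∈ T, F.A.R F.a y x) ∧
      (∀ x ∈ T, ∀ x' ∈ T, F.A.R F.a x x' → x = x') := by
  classical
  have hne : ∀ {x}, x ∈ T → x ≠ F.a := fun hx h => hTa (h ▸ hx)
  let f : Ω → F.Bl := fun x => if h : x = F.a then F.blk F.b F.hab.symm else F.blk x h
  let B0 : F.Bl := F.blk F.b F.hab.symm
  have hf : ∀ {x}, x ≠ F.a → ∀ {z} (hz : z ≠ F.a), (f x = F.blk z hz ↔ F.A.R F.a x z) := by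
    intro x hx z hz
    simp only [f, dif_neg hx]
    exact F.blk_eq_iff hx hz
  have hsurj : ∀ y, y ≠ F.a → ¬ F.A.R F.a F.b y → ∃ x ∈ T, F.A.R F.a y x := by
    intro y hy hy'
    obtain ⟨h, hh, hR'⟩ := htr x0 y (hne hx0) hy hx0' hy'
    exact ⟨h • x0, hT h hh x0 hx0, F.A.symm' hR'⟩
  have himg : {S : F.Bl | S ≠ B0} ⊆ f '' T := by
    intro S hS
    obtain ⟨y, hy, rfl⟩ := F.exists_blk S
    obtain ⟨x, hx, hxy⟩ := hsurj y hy fun h => hS ((F.blk_eq_iff hy _).2 (F.A.symm' h))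
    exact ⟨x, hx, (hf (hne hx) hy).2 (F.A.symm' hxy)⟩
  have hcompl : {S : F.Bl | S ≠ B0}.ncard = p - 1 := by
    rw [show {S : F.Bl | S ≠ B0} = Set.univ \ {B0} by ext; simp,
      Set.ncard_sdiff_singleton_of_mem (Set.mem_univ _), Set.ncard_univ, F.card_Bl]
  have h1 : (f '' T).ncard = p - 1 := le_antisymm (hcard ▸ Set.ncard_image_le (Set.toFinite _))
    (hcompl ▸ Set.ncard_le_ncard himg (Set.toFinite _))
  have hinj : Set.InjOn f T := by
    apply Set.injOn_of_ncard_image_eq _ (Set.toFinite _)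
    rw [h1, hcard]
  have heq : {S : F.Bl | S ≠ B0} = f '' T :=
    Set.eq_of_subset_of_ncard_le himg (by rw [h1, hcompl]) (Set.toFinite _)
  refine ⟨fun x hx h => ?_, hsurj, fun x hx x' hx' h => ?_⟩
  · have : f x ∈ f '' T := ⟨x, hx, rfl⟩
    rw [← heq] at this
    exact this ((hf (hne hx) _).2 (F.A.symm' h))
  · refine hinj hx hx' ?_
    have hx'a := hne hx'
    rw [(hf (hne hx) hx'a).2 h]
    simp only [f, dif_neg hx'a]

/-- If `H` is transitive on the other classes, the block kernel is regular on the class of `b`. -/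
theorem Reg.inf_H_eq_bot (htr : ∀ y z, y ≠ F.a → z ≠ F.a → ¬ F.A.R F.a F.b y → ¬ F.A.R F.a F.b z →
      ∃ h ∈ F.H, F.A.R F.a (h • y) z) {k : G} (hk : k ∈ F.K) (hk' : k • F.b = F.b) : k = 1 := by
  obtain ⟨s, hs, hs'⟩ := F.exists_swap
  have hkH : k ∈ F.H := F.mem_H.2 ⟨hk.1, hk'⟩
  have hEa : F.a ∉ F.A.sec F.b F.a := fun h => h.2 rfl
  obtain ⟨e0, he0, he0'⟩ : ∃ e ∈ F.A.sec F.b F.a, ¬ F.A.R F.a F.b e := by
    by_contra hcon
    push Not at hcon
    refine F.not_mapsTo hs hs' fun x hx => hcon _ ?_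
    rw [← F.image_sec hs hs']
    exact ⟨x, hx, rfl⟩
  obtain ⟨hE1, hE2, hE3⟩ := hR.transversal htr (F.A.sec F.b F.a)
    (fun h hh x hx => F.H_stable_sec' hh hx) hEa (F.A.ncard_sec F.hab) he0 he0'
  have hdisj : Disjoint (F.A.sec F.a F.b) (F.A.sec F.b F.a) :=
    Set.disjoint_left.2 fun x hx hx' => hE1 x hx' hx.1
  obtain ⟨hd1, hd2⟩ := F.A.disjoint_apices F.h2 F.hab hdisj
  have hap := F.A.ncard_apices F.h2 F.hab
  have hFa : F.a ∉ F.A.apices F.a F.b := fun h => F.A.ne' h rfl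
  obtain ⟨f0, hf0⟩ : (F.A.apices F.a F.b).Nonempty := Set.nonempty_of_ncard_ne_zero (by
    rw [hap]; have := (Fact.out : p.Prime).two_le; omega)
  have hFb : ∀ x ∈ F.A.apices F.a F.b, x ≠ F.b := fun x hx h => F.A.ne_right hx h.symm
  obtain ⟨hF1, hF2, hF3⟩ := hR.transversal htr (F.A.apices F.a F.b) (fun h hh x hx => by
      have := Set.mem_image_of_mem (fun z => h • z) hx
      rwa [← F.A.apices_smul, (F.mem_H.1 hh).1, (F.mem_H.1 hh).2] at this) hFa hap hf0
    (fun h => Set.disjoint_left.1 hd1 hf0 ⟨h, hFb f0 hf0⟩)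
  obtain ⟨f, hf, hef⟩ := hF2 e0 (fun h => hEa (h ▸ he0)) he0'
  have hne : e0 ≠ f := fun h => Set.disjoint_left.1 hd2 hf (h ▸ he0)
  have hfixe : ∀ j ∈ F.K, j • F.b = F.b → j • e0 = e0 ∧ j • f = f := by
    intro j hj hjb
    have hjH : j ∈ F.H := F.mem_H.2 ⟨hj.1, hjb⟩
    refine ⟨(hE3 _ he0 _ (F.H_stable_sec' hjH he0)
      (hj.2 _ (fun h => hEa (h ▸ he0)))).symm, ?_⟩
    have hjf : j • f ∈ F.A.apices F.a F.b := by
      have := Set.mem_image_of_mem (fun z => j • z) hf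
      rwa [← F.A.apices_smul, hj.1, hjb] at this
    exact (hF3 _ hf _ hjf (hj.2 _ (fun h => hFa (h ▸ hf)))).symm
  have hsub : ∀ j ∈ F.K, j • e0 = e0 → j • F.b = F.b := by
    intro j hj hje
    have hle : F.K ⊓ stabilizer G F.b ≤ F.K ⊓ stabilizer G e0 := fun g hg =>
      ⟨hg.1, (hfixe g hg.1 hg.2).1⟩
    have h1 := hR.card_stab_K F.hab.symm
    have h2 := hR.card_stab_K (show e0 ≠ F.a from fun h => hEa (h ▸ he0))
    have heq := Subgroup.eq_of_le_of_card_ge hle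
      (le_of_eq (Nat.eq_of_mul_eq_mul_left (Fact.out : p.Prime).pos (h2.symm.trans h1)))
    have : j ∈ F.K ⊓ stabilizer G e0 := ⟨hj, hje⟩
    rw [← heq] at this
    exact this.2
  exact hR.eq_one_of_fix_two hef hne (fun j hj hje => (hfixe j hj (hsub j hj hje)).2) hk
    (hfixe k hk hk').1

end Frame

end Cfsg.Agent.Perm.SquarePlusOne
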