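import Mathlib

/-! Apex relations of a 2-transitive group whose point stabilisers preserve a partition:
`R x y z` says that `y` and `z` lie in one class of the partition attached to `x`. -/

set_option autoImplicit false

namespace Cfsg.Agent.Perm.SquarePlusOne

open MulAction

/-- A `G`-invariant family of partitions, one for each point `x`, of the other points into classes
of size `p`. -/
structure ApexRel (G Ω : Type*) [Group G] [MulAction G Ω] (p : ℕ) where
  /-- `R x y z`: `y` and `z` are equivalent as seen from `x` -/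
  R : Ω → Ω → Ω → Prop
  smul' : ∀ (g : G) {x y z : Ω}, R x y z → R (g • x) (g • y) (g • z)
  refl' : ∀ {x y : Ω}, y ≠ x → R x y y
  ne' : ∀ {x y z : Ω}, R x y z → y ≠ x
  symm' : ∀ {x y z : Ω}, R x y z → R x z y
  trans' : ∀ {x y z w : Ω}, R x y z → R x z w → R x y w
  card' : ∀ {x y : Ω}, y ≠ x → {z | R x y z}.ncard = p

namespace ApexRel

variable {G Ω : Type*} [Group G] [MulAction G Ω] {p : ℕ} (A : ApexRel G Ω p)

theorem ne_right {x y z : Ω} (h : A.R x y z) : z ≠ x := A.ne' (A.symm' h)

/-- The class of `y` as seen from `x`. -/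
def cls (x y : Ω) : Set Ω := {z | A.R x y z}

/-- The other members of the class of `y` as seen from `x`. -/
def sec (x y : Ω) : Set Ω := A.cls x y \ {y}

theorem mem_cls {x y z : Ω} : z ∈ A.cls x y ↔ A.R x y z := Iff.rfl

theorem mem_sec {x y z : Ω} : z ∈ A.sec x y ↔ A.R x y z ∧ z ≠ y := Iff.rfl

theorem cls_eq {x y z : Ω} (h : A.R x y z) : A.cls x z = A.cls x y :=
  Set.ext fun _ => ⟨fun hw => A.trans' h hw, fun hw => A.trans' (A.symm' h) hw⟩

theorem cls_smul (g : G) (x y : Ω) : A.cls (g • x) (g • y) = (fun z => g • z) '' A.cls x y := by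
  ext z
  constructor
  · intro h
    refine ⟨g⁻¹ • z, ?_, smul_inv_smul g z⟩
    have := A.smul' g⁻¹ h
    rwa [inv_smul_smul, inv_smul_smul] at this
  · rintro ⟨w, hw, rfl⟩
    exact A.smul' g hw

theorem sec_smul (g : G) (x y : Ω) : A.sec (g • x) (g • y) = (fun z => g • z) '' A.sec x y := by
  rw [sec, sec, Set.image_sdiff (MulAction.injective g), cls_smul, Set.image_singleton]

theorem ncard_sec {x y : Ω} (h : y ≠ x) : (A.sec x y).ncard = p - 1 := by
  rw [sec, Set.ncard_sdiff_singleton_of_mem (show y ∈ A.cls x y from A.refl' h)]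
  exact congrArg (· - 1) (A.card' h)

variable (h2 : IsMultiplyPretransitive G Ω 2)
include h2

theorem forall_of_pair {P : Ω → Ω → Prop} {a b : Ω} (hab : a ≠ b)
    (hsmul : ∀ (g : G) (x y : Ω), P x y → P (g • x) (g • y)) (h : P a b) {x y : Ω} (hxy : x ≠ y) :
    P x y := by
  obtain ⟨g, rfl, rfl⟩ := is_two_pretransitive_iff.1 h2 hab hxy
  exact hsmul g a b h

/-- No pair of points sees itself as an apex both ways: otherwise a design with
`(p ^ 2 + 1) p / (p + 1)` blocks would exist. -/
theorem noDesign [Finite Ω] (hp : 2 ≤ p) (hn : Nat.card Ω = p ^ 2 + 1) {a b : Ω} (hab : a ≠ b) :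
    A.sec a b ≠ A.sec b a := by
  classical
  intro hsym
  have _ := Fintype.ofFinite Ω
  have hall : ∀ {x y : Ω}, x ≠ y → A.sec x y = A.sec y x := by
    intro x y hxy
    refine forall_of_pair h2 (P := fun x y => A.sec x y = A.sec y x) hab (fun g u v h => ?_) hsym hxy
    show A.sec (g • u) (g • v) = A.sec (g • v) (g • u)
    rw [sec_smul, sec_smul, h]
  let L : Ω → Ω → Set Ω := fun x y => insert x (A.cls x y)
  have hcls : ∀ {x y : Ω}, x ≠ y → A.cls x y = insert y (A.sec x y) := by
    intro x y hxy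
    rw [sec, Set.insert_sdiff_singleton, Set.insert_eq_of_mem]
    exact A.refl' hxy.symm
  have hcomm : ∀ {x y : Ω}, x ≠ y → L x y = L y x := by
    intro x y hxy
    simp only [L]
    rw [hcls hxy, hcls hxy.symm, hall hxy, Set.insert_comm]
  have hpair : ∀ {x y u v : Ω}, x ≠ y → u ∈ L x y → v ∈ L x y → u ≠ v → L u v = L x y := by
    intro x y u v hxy hu hv huv
    rcases Set.mem_insert_iff.1 hu with rfl | hu'
    · have hv' := (Set.mem_insert_iff.1 hv).resolve_left huv.symm
      simp only [L]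
      rw [A.cls_eq hv']
    · have hux : u ≠ x := A.ne_right hu'
      have h1 : L u x = L x y := by
        rw [hcomm hux]
        simp only [L]
        rw [A.cls_eq hu']
      rw [← h1] at hv
      rw [← h1]
      have hv' := (Set.mem_insert_iff.1 hv).resolve_left huv.symm
      simp only [L]
      rw [A.cls_eq hv']
  let f : Ω × Ω → Finset Ω := fun q => (L q.1 q.2).toFinset
  let S : Finset (Ω × Ω) := Finset.univ.offDiag
  have hfib : ∀ T ∈ S.image f, (S.filter fun q => f q = T).card = (p + 1) * p := by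
    intro T hT
    obtain ⟨⟨x, y⟩, hxy, rfl⟩ := Finset.mem_image.1 hT
    have hxy' : x ≠ y := by simpa [S] using hxy
    have hcard : (f (x, y)).card = p + 1 := by
      simp only [f]
      rw [← Set.ncard_eq_toFinset_card']
      simp only [L]
      rw [Set.ncard_insert_of_notMem (show x ∉ A.cls x y from fun h => A.ne_right h rfl)
        (Set.toFinite _), show (A.cls x y).ncard = p from A.card' hxy'.symm]
    have hset : S.filter (fun q => f q = f (x, y)) = (f (x, y)).offDiag := by
      ext ⟨u, v⟩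
      simp only [S, f, Finset.mem_filter, Finset.mem_offDiag, Finset.mem_univ, true_and,
        Set.mem_toFinset, Set.toFinset_inj]
      constructor
      · rintro ⟨huv, h⟩
        refine ⟨?_, ?_, huv⟩
        · rw [← h]; exact Set.mem_insert _ _
        · rw [← h]; exact Set.mem_insert_of_mem _ (A.refl' huv.symm)
      · rintro ⟨hu, hv, huv⟩
        exact ⟨huv, hpair hxy' hu hv huv⟩
    rw [hset, Finset.offDiag_card, hcard, ← Nat.mul_sub_one, Nat.add_sub_cancel]
  have hsum := Finset.card_eq_sum_card_image f S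
  rw [Finset.sum_congr rfl hfib, Finset.sum_const, smul_eq_mul] at hsum
  have hS : S.card = (p ^ 2 + 1) * p ^ 2 := by
    simp only [S]
    rw [Finset.offDiag_card, Finset.card_univ, ← Nat.card_eq_fintype_card, hn, ← Nat.mul_sub_one,
      Nat.add_sub_cancel]
  obtain ⟨k, hk⟩ : p + 1 ∣ (p ^ 2 + 1) * p := by
    refine ⟨(S.image f).card, Nat.eq_of_mul_eq_mul_right (show 0 < p by omega) ?_⟩
    have := hS.symm.trans hsum
    calc (p ^ 2 + 1) * p * p = (p ^ 2 + 1) * p ^ 2 := by ring
      _ = (S.image f).card * ((p + 1) * p) := this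
      _ = (p + 1) * (S.image f).card * p := by ring
  obtain ⟨q, rfl⟩ : ∃ q, p = q + 1 := ⟨p - 1, by omega⟩
  have h3 : (q + 2 : ℕ) ∣ 2 := by
    have e1 : (q + 2) ∣ ((q + 1) ^ 2 + 1) * (q + 1) := ⟨k, by rw [hk]⟩
    have e2 : (q + 2) ∣ (q * (q + 2)) * (q + 1) := (Dvd.intro_left q rfl).mul_right _
    have e3 : ((q + 1) ^ 2 + 1) * (q + 1) = (q * (q + 2)) * (q + 1) + 2 * (q + 1) := by ring
    rw [e3] at e1
    have e4 : (q + 2) ∣ 2 * (q + 1) := (Nat.dvd_add_right e2).1 e1
    have e5 : (q + 2) ∣ 2 * (q + 1) + 2 := by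
      rw [show 2 * (q + 1) + 2 = 2 * (q + 2) by ring]
      exact Dvd.intro_left 2 rfl
    exact (Nat.dvd_add_right e4).1 e5
  have := Nat.le_of_dvd two_pos h3
  omega

/-- The apices over the pair `y, z`. -/
def apices (y z : Ω) : Set Ω := {x | A.R x y z}

omit h2 in
theorem apices_smul (g : G) (y z : Ω) :
    A.apices (g • y) (g • z) = (fun x => g • x) '' A.apices y z := by
  ext x
  constructor
  · intro h
    refine ⟨g⁻¹ • x, ?_, smul_inv_smul g x⟩
    have := A.smul' g⁻¹ h
    rwa [inv_smul_smul, inv_smul_smul] at this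
  · rintro ⟨w, hw, rfl⟩
    exact A.smul' g hw

/-- There are `p - 1` apices over each pair of distinct points. -/
theorem ncard_apices [Finite Ω] {a b : Ω} (hab : a ≠ b) : (A.apices a b).ncard = p - 1 := by
  classical
  have _ := Fintype.ofFinite Ω
  have hconst : ∀ {x y : Ω}, x ≠ y → (A.apices x y).ncard = (A.apices a b).ncard := by
    intro x y hxy
    refine forall_of_pair h2 (P := fun x y => (A.apices x y).ncard = (A.apices a b).ncard) hab
      (fun g u v h => ?_) rfl hxy
    show (A.apices (g • u) (g • v)).ncard = _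
    rw [apices_smul, Set.ncard_image_of_injective _ (MulAction.injective g), h]
  let S : Finset (Ω × Ω) := Finset.univ.offDiag
  let T : Finset (Ω × Ω × Ω) := Finset.univ.filter fun t => A.R t.1 t.2.1 t.2.2 ∧ t.2.1 ≠ t.2.2
  have hT1 : T.card = S.card * (p - 1) := by
    rw [Finset.card_eq_sum_card_fiberwise (f := fun t => (t.1, t.2.1)) (t := S) (fun t ht => by
      simp only [T, Finset.coe_filter, Finset.mem_univ, true_and] at ht
      exact Finset.mem_offDiag.2 ⟨Finset.mem_univ _, Finset.mem_univ _, (A.ne' ht.1).symm⟩)]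
    rw [Finset.sum_congr rfl (g := fun _ => p - 1) (fun q hq => ?_), Finset.sum_const, smul_eq_mul]
    obtain ⟨x, y⟩ := q
    have hxy : x ≠ y := by simpa [S] using hq
    rw [← A.ncard_sec hxy.symm, Set.ncard_eq_toFinset_card' (A.sec x y)]
    refine Finset.card_bij (fun t _ => t.2.2) ?_ ?_ ?_
    · intro t ht
      simp only [T, Finset.mem_filter, Finset.mem_univ, true_and, Prod.mk.injEq] at ht
      obtain ⟨⟨h1, h2'⟩, rfl, rfl⟩ := ht
      rw [Set.mem_toFinset]
      exact ⟨h1, fun h => h2' h.symm⟩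
    · intro t ht t' ht' he
      simp only [T, Finset.mem_filter, Finset.mem_univ, true_and, Prod.mk.injEq] at ht ht'
      exact Prod.ext (ht.2.1.trans ht'.2.1.symm) (Prod.ext (ht.2.2.trans ht'.2.2.symm) he)
    · intro z hz
      rw [Set.mem_toFinset] at hz
      exact ⟨(x, y, z), by
        simp only [T, Finset.mem_filter, Finset.mem_univ, true_and, and_true]
        exact ⟨hz.1, fun h => hz.2 h.symm⟩, rfl⟩
  have hT2 : T.card = S.card * (A.apices a b).ncard := by
    rw [Finset.card_eq_sum_card_fiberwise (f := fun t => (t.2.1, t.2.2)) (t := S) (fun t ht => by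
      simp only [T, Finset.coe_filter, Finset.mem_univ, true_and] at ht
      exact Finset.mem_offDiag.2 ⟨Finset.mem_univ _, Finset.mem_univ _, ht.2⟩)]
    rw [Finset.sum_congr rfl (g := fun _ => (A.apices a b).ncard) (fun q hq => ?_), Finset.sum_const,
      smul_eq_mul]
    obtain ⟨y, z⟩ := q
    have hyz : y ≠ z := by simpa [S] using hq
    rw [← hconst hyz, Set.ncard_eq_toFinset_card' (A.apices y z)]
    refine Finset.card_bij (fun t _ => t.1) ?_ ?_ ?_
    · intro t ht
      simp only [T, Finset.mem_filter, Finset.mem_univ, true_and, Prod.mk.injEq] at ht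
      obtain ⟨⟨h1, -⟩, rfl, rfl⟩ := ht
      rw [Set.mem_toFinset]
      exact h1
    · intro t ht t' ht' he
      simp only [T, Finset.mem_filter, Finset.mem_univ, true_and, Prod.mk.injEq] at ht ht'
      exact Prod.ext he (Prod.ext (ht.2.1.trans ht'.2.1.symm) (ht.2.2.trans ht'.2.2.symm))
    · intro x hx
      rw [Set.mem_toFinset] at hx
      exact ⟨(x, y, z), by
        simp only [T, Finset.mem_filter, Finset.mem_univ, true_and, and_true]
        exact ⟨hx, hyz⟩, rfl⟩
  have hS : 0 < S.card := Finset.card_pos.2 ⟨(a, b), by simp [S, hab]⟩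
  exact Nat.eq_of_mul_eq_mul_left hS (hT2.symm.trans hT1)

/-- If the two sections over a pair are disjoint, the apices over it avoid both. -/
theorem disjoint_apices {a b : Ω} (hab : a ≠ b) (hdisj : Disjoint (A.sec a b) (A.sec b a)) :
    Disjoint (A.apices a b) (A.sec a b) ∧ Disjoint (A.apices a b) (A.sec b a) := by
  have hall : ∀ {x y : Ω}, x ≠ y → Disjoint (A.sec x y) (A.sec y x) := by
    intro x y hxy
    refine forall_of_pair h2 (P := fun x y => Disjoint (A.sec x y) (A.sec y x)) hab
      (fun g u v h => ?_) hdisj hxy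
    show Disjoint (A.sec (g • u) (g • v)) (A.sec (g • v) (g • u))
    rw [sec_smul, sec_smul]
    exact (Set.disjoint_image_iff (MulAction.injective g)).2 h
  constructor
  · rw [Set.disjoint_left]
    rintro c (hc : A.R c a b) ⟨hc1, hc2⟩
    have hac : a ≠ c := (A.ne_right hc1).symm
    exact Set.disjoint_left.1 (hall hac) ⟨A.symm' hc1, fun h => hc2 h.symm⟩ ⟨hc, hab.symm⟩
  · rw [Set.disjoint_left]
    rintro c (hc : A.R c a b) ⟨hc1, hc2⟩
    have hbc : b ≠ c := (A.ne_right hc1).symm
    exact Set.disjoint_left.1 (hall hbc) ⟨A.symm' hc1, fun h => hc2 h.symm⟩ ⟨A.symm' hc, hab⟩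

end ApexRel

/-- The apex relation determined by an invariant partition for one point. -/
def ApexRel.mk' {G Ω : Type*} [Group G] [MulAction G Ω] {p : ℕ} [IsPretransitive G Ω] (a : Ω)
    (r : Ω → Ω → Prop) (hne : ∀ {y z}, r y z → y ≠ a) (hrefl : ∀ {y}, y ≠ a → r y y)
    (hsymm : ∀ {y z}, r y z → r z y) (htrans : ∀ {y z w}, r y z → r z w → r y w)
    (hinv : ∀ g : G, g • a = a → ∀ {y z}, r y z → r (g • y) (g • z))
    (hcard : ∀ {y}, y ≠ a → {z | r y z}.ncard = p) : ApexRel G Ω p where
  R x y z := ∃ g : G, g • a = x ∧ r (g⁻¹ • y) (g⁻¹ • z)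
  smul' := by
    rintro k x y z ⟨g, rfl, h⟩
    exact ⟨k * g, mul_smul k g a, by
      rw [mul_inv_rev, mul_smul, inv_smul_smul, mul_smul, inv_smul_smul]; exact h⟩
  refl' := by
    intro x y hyx
    obtain ⟨g, rfl⟩ := exists_smul_eq G a x
    exact ⟨g, rfl, hrefl fun h => hyx (by rw [← h, smul_inv_smul])⟩
  ne' := by
    rintro x y z ⟨g, rfl, h⟩ rfl
    exact hne h (inv_smul_smul g a)
  symm' := by
    rintro x y z ⟨g, hg, h⟩
    exact ⟨g, hg, hsymm h⟩
  trans' := by
    rintro x y z w ⟨g, hg, h⟩ ⟨k, hk, h'⟩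
    refine ⟨g, hg, htrans h ?_⟩
    have hga : (g⁻¹ * k) • a = a := by rw [mul_smul, hk, ← hg, inv_smul_smul]
    have := hinv _ hga h'
    rwa [mul_smul, smul_inv_smul, mul_smul, smul_inv_smul] at this
  card' := by
    intro x y hyx
    obtain ⟨g, rfl⟩ := exists_smul_eq G a x
    have hset : {z | ∃ k : G, k • a = g • a ∧ r (k⁻¹ • y) (k⁻¹ • z)} =
        (fun z => g • z) '' {z | r (g⁻¹ • y) z} := by
      ext z
      constructor
      · rintro ⟨k, hk, h⟩
        refine ⟨g⁻¹ • z, ?_, smul_inv_smul g z⟩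
        have hga : (g⁻¹ * k) • a = a := by rw [mul_smul, hk, inv_smul_smul]
        have := hinv _ hga h
        rwa [mul_smul, smul_inv_smul, mul_smul, smul_inv_smul] at this
      · rintro ⟨w, hw, rfl⟩
        exact ⟨g, rfl, by rw [inv_smul_smul]; exact hw⟩
    rw [hset, Set.ncard_image_of_injective _ (MulAction.injective g)]
    exact hcard fun h => hyx (by rw [← h, smul_inv_smul])

end Cfsg.Agent.Perm.SquarePlusOne
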