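import Cfsg.Agent.Lib.Perm.SquarePlusOne.NonNormal
import Cfsg.Agent.Lib.Perm.Sharp

/-! The case `G_{ab} ≤ K`: the normaliser of `G_{ab}` is sharply 2-transitive on its fixed points,
which leads to a contradiction. -/

set_option autoImplicit false
set_option linter.unusedSectionVars false

namespace Cfsg.Agent.Perm.SquarePlusOne

open MulAction

namespace Frame

variable {G Ω : Type*} [Group G] [MulAction G Ω] {p : ℕ} {F : Frame G Ω p}
  [Finite G] [Finite Ω] [FaithfulSMul G Ω] [Fact p.Prime] {U : Subgroup G} (hR : F.Reg U)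

theorem conj_H {g : G} (h1 : ∀ h ∈ F.H, h • g • F.a = g • F.a)
    (h2 : ∀ h ∈ F.H, h • g • F.b = g • F.b) :
    (∀ h ∈ F.H, g⁻¹ * h * g ∈ F.H) ∧ ∀ h ∈ F.H, g * h * g⁻¹ ∈ F.H := by
  have hA : ∀ h ∈ F.H, g⁻¹ * h * g ∈ F.H := fun h hh => F.mem_H.2
    ⟨by rw [mul_smul, mul_smul, h1 h hh, inv_smul_smul],
      by rw [mul_smul, mul_smul, h2 h hh, inv_smul_smul]⟩
  refine ⟨hA, fun h hh => ?_⟩
  let f : F.H → F.H := fun x => ⟨g⁻¹ * x * g, hA x x.2⟩
  obtain ⟨x, hx⟩ := (Finite.injective_iff_surjective (f := f)).1 (fun x y hxy => by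
    simpa [f] using congrArg Subtype.val hxy) ⟨h, hh⟩
  have hx' : g⁻¹ * x * g = h := congrArg Subtype.val hx
  rw [← hx', show g * (g⁻¹ * (x : G) * g) * g⁻¹ = x by group]
  exact x.2

include hR

theorem Reg.false_of_H_le_K (hp3 : 3 ≤ p) (hHK : F.H ≤ F.K)
    (hHW : ∀ x ∈ F.A.sec F.a F.b, ∀ y ∈ F.A.sec F.a F.b, ∃ h ∈ F.H, h • x = y)
    (hE : ∀ x ∈ F.A.sec F.b F.a, ∀ y ∈ F.A.sec F.b F.a,
      F.A.R F.a x y ∧ ¬ F.A.R F.a F.b x) : False := by
  classical
  have hp := (Fact.out : p.Prime)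
  obtain ⟨s, hs, hs'⟩ := F.exists_swap
  let Fs : Set Ω := {x | ∀ h ∈ F.H, h • x = x}
  have haF : F.a ∈ Fs := fun h hh => (F.mem_H.1 hh).1
  have hbF : F.b ∈ Fs := fun h hh => (F.mem_H.1 hh).2
  have hDne : (F.A.sec F.a F.b).ncard = p - 1 := F.A.ncard_sec F.hab.symm
  -- `b` is the only fixed point of its class
  have hΔ : ∀ x ∈ Fs, F.A.R F.a F.b x → x = F.b := by
    intro x hx hxb
    by_contra hne
    obtain ⟨y, hy, hyx⟩ := Set.exists_ne_of_one_lt_ncard (by omega : 1 < (F.A.sec F.a F.b).ncard) x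
    obtain ⟨h, hh, hhx⟩ := hHW x ⟨hxb, hne⟩ y hy
    exact hyx (hhx.symm.trans (hx h hh))
  -- each class has at most one fixed point
  have huniq : ∀ x ∈ Fs, ∀ x' ∈ Fs, F.A.R F.a x x' → x = x' := by
    intro x hx x' hx' hxx'
    obtain ⟨g, hg, hgb⟩ := F.exists_Γ_smul F.hab.symm (F.A.ne' hxx')
    have hc := (conj_H (F := F) (g := g) (fun h hh => by rw [F.mem_Γ.1 hg]; exact haF h hh)
      (fun h hh => by rw [hgb]; exact hx h hh)).2
    have h1 : g⁻¹ • x' = F.b := by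
      refine hΔ _ (fun h hh => ?_) ?_
      · have := hx' _ (hc h hh)
        rw [mul_smul, mul_smul, smul_eq_iff_eq_inv_smul] at this
        exact this
      · have := F.smul_R (inv_mem hg) hxx'
        rwa [← hgb, inv_smul_smul] at this
    rw [← hgb, ← h1, smul_inv_smul]
  -- an element of `G_a` fixing one class fixes all
  have hsemi : ∀ g ∈ F.Γ, ∀ y, y ≠ F.a → F.A.R F.a y (g • y) → g ∈ F.K := by
    intro g hg y hy hgy
    obtain ⟨x, hx, hxy⟩ := hR.clsTrans _ _ (F.A.symm' hgy)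
    obtain ⟨t, ht, htb⟩ := F.exists_Γ_smul F.hab.symm hy
    have hH : t⁻¹ * (x * g) * t ∈ F.H := F.mem_H.2
      ⟨F.mem_Γ.1 (mul_mem (mul_mem (inv_mem ht) (mul_mem (F.K_le hx.2) hg)) ht),
        by rw [mul_smul, mul_smul, htb, mul_smul, hxy, ← htb, inv_smul_smul]⟩
    have h1 := F.conj_mem_K ht (hHK hH)
    rw [show t * (t⁻¹ * (x * g) * t) * t⁻¹ = x * g by group] at h1
    rw [show g = x⁻¹ * (x * g) by group]
    exact mul_mem (inv_mem hx.2) h1
  -- the fixed point `r` in the class containing `sec b a`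
  obtain ⟨e0, he0⟩ : (F.A.sec F.b F.a).Nonempty := Set.nonempty_of_ncard_ne_zero (by
    rw [F.A.ncard_sec F.hab]; omega)
  have he0a : e0 ≠ F.a := he0.2
  obtain ⟨r, hr, hrE⟩ : ∃ r, F.A.R F.a e0 r ∧ r ∉ F.A.sec F.b F.a := by
    by_contra hcon
    push Not at hcon
    have := Set.ncard_le_ncard (s := F.A.cls F.a e0) (t := F.A.sec F.b F.a) hcon (Set.toFinite _)
    rw [F.A.ncard_sec F.hab, show (F.A.cls F.a e0).ncard = p from F.A.card' he0a] at this
    omega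
  have hclsE : ∀ z, F.A.R F.a e0 z → z ≠ r → z ∈ F.A.sec F.b F.a := by
    intro z hz hzr
    by_contra hzE
    have hsub : F.A.sec F.b F.a ⊆ F.A.cls F.a e0 \ {r, z} := fun x hx =>
      ⟨(hE e0 he0 x hx).1, fun h => by
        rcases h with rfl | rfl
        · exact hrE hx
        · exact hzE hx⟩
    have := Set.ncard_le_ncard hsub (Set.toFinite _)
    rw [F.A.ncard_sec F.hab, Set.ncard_sdiff (show ({r, z} : Set Ω) ⊆ F.A.cls F.a e0 by
        rintro w (rfl | rfl) <;> assumption) (Set.toFinite _),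
      Set.ncard_pair hzr.symm, show (F.A.cls F.a e0).ncard = p from F.A.card' he0a] at this
    omega
  have hrF : r ∈ Fs := by
    intro h hh
    by_contra hne
    have h1 : h • r ∈ F.A.sec F.b F.a :=
      hclsE _ (F.A.trans' hr ((hHK hh).2 r (F.A.ne_right hr))) hne
    have h2 := F.H_stable_sec' (inv_mem hh) h1
    rw [inv_smul_smul] at h2
    exact hrE h2
  -- an element of `G_a` moving the class of `b`, normalising `H`
  obtain ⟨g, hg, hgb⟩ := F.exists_Γ_smul F.hab.symm (F.A.ne_right hr)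
  have hgK : g ∉ F.K := fun h => by
    have h1 := h.2 F.b F.hab.symm
    rw [hgb] at h1
    exact (hE e0 he0 e0 he0).2 (F.A.trans' h1 (F.A.symm' hr))
  have hgc := conj_H (F := F) (g := g) (fun h hh => by rw [F.mem_Γ.1 hg]; exact haF h hh)
    (fun h hh => by rw [hgb]; exact hrF h hh)
  have hgF : ∀ x ∈ Fs, g • x ∈ Fs := by
    intro x hx h hh
    have := hx _ (hgc.1 h hh)
    rw [mul_smul, mul_smul, inv_smul_eq_iff] at this
    exact this
  have hgpow : ∀ n : ℕ, g ^ n • F.b ∈ Fs := by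
    intro n
    induction n with
    | zero => rw [pow_zero, one_smul]; exact hbF
    | succ n ih => rw [pow_succ', mul_smul]; exact hgF _ ih
  -- its powers meet all classes
  let ψ : F.Γ →* Equiv.Perm F.Bl := MulAction.toPermHom F.Γ F.Bl
  have hrange : Nat.card ψ.range = p := by
    have h1 := ψ.ker.index_mul_card
    have h2 : Nat.card ψ.ker = Nat.card F.K := Nat.card_congr
      { toFun := fun x => ⟨x.1.1, (F.smul_bl_eq_iff_mem_K x.1).1
          fun S => DFunLike.congr_fun (x.2 : ψ x.1 = 1) S⟩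
        invFun := fun x => ⟨⟨x.1, F.K_le x.2⟩, Equiv.ext fun S =>
          (F.smul_bl_eq_iff_mem_K ⟨x.1, F.K_le x.2⟩).2 x.2 S⟩
        left_inv := fun _ => rfl
        right_inv := fun _ => rfl }
    have h4 : F.K ⊓ stabilizer G F.b = F.H :=
      le_antisymm (fun x hx => F.mem_H.2 ⟨hx.1.1, hx.2⟩) (fun x hx => ⟨hHK hx, (F.mem_H.1 hx).2⟩)
    rw [Subgroup.index_ker, h2, hR.card_stab_K F.hab.symm, h4, F.card_Γ, ← mul_assoc] at h1
    have h5 := Nat.eq_of_mul_eq_mul_right Nat.card_pos h1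
    rw [sq] at h5
    exact Nat.eq_of_mul_eq_mul_right hp.pos h5
  have hgen : ∀ y, y ≠ F.a → ∃ n : ℕ, F.A.R F.a (g ^ n • F.b) y := by
    intro y hy
    obtain ⟨u, hu, hub⟩ := F.exists_Γ_smul F.hab.symm hy
    have hne : (⟨ψ ⟨g, hg⟩, _, rfl⟩ : ψ.range) ≠ 1 := fun h => hgK <| by
      have h1 : ψ ⟨g, hg⟩ = 1 := congrArg Subtype.val h
      exact (F.smul_bl_eq_iff_mem_K ⟨g, hg⟩).1 fun S => DFunLike.congr_fun h1 S
    have hmem : (⟨ψ ⟨u, hu⟩, _, rfl⟩ : ψ.range) ∈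
        Subgroup.zpowers (⟨ψ ⟨g, hg⟩, _, rfl⟩ : ψ.range) := by
      rw [zpowers_eq_top_of_prime_card hrange hne]; exact Subgroup.mem_top _
    rw [← mem_powers_iff_mem_zpowers, Submonoid.mem_powers_iff] at hmem
    obtain ⟨n, hn⟩ := hmem
    have hn' : ψ (⟨g, hg⟩ ^ n) = ψ ⟨u, hu⟩ := by rw [map_pow]; exact congrArg Subtype.val hn
    have hblk : (⟨g, hg⟩ : F.Γ) ^ n • F.blk F.b F.hab.symm =
        (⟨u, hu⟩ : F.Γ) • F.blk F.b F.hab.symm := DFunLike.congr_fun hn' _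
    rw [F.smul_blk, F.smul_blk, F.blk_eq_iff] at hblk
    refine ⟨n, ?_⟩
    rw [← hub]
    exact hblk
  have hfixcls : ∀ y, y ≠ F.a → ∃ x ∈ Fs, F.A.R F.a x y := fun y hy => by
    obtain ⟨n, hn⟩ := hgen y hy
    exact ⟨_, hgpow n, hn⟩
  -- the fixed point set has `p + 1` points
  have hFcard : Fs.ncard = p + 1 := by
    have hbij : Set.BijOn (fun x => if h : x = F.a then F.blk F.b F.hab.symm else F.blk x h)
        (Fs \ {F.a}) Set.univ := by
      refine ⟨fun _ _ => Set.mem_univ _, fun x hx x' hx' he => ?_, fun S _ => ?_⟩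
      · have hxa : x ≠ F.a := hx.2
        have hx'a : x' ≠ F.a := hx'.2
        simp only [dif_neg hxa, dif_neg hx'a, F.blk_eq_iff] at he
        exact huniq x hx.1 x' hx'.1 he
      · obtain ⟨y, hy, rfl⟩ := F.exists_blk S
        obtain ⟨x, hx, hxy⟩ := hfixcls y hy
        refine ⟨x, ⟨hx, F.A.ne' hxy⟩, ?_⟩
        simp only [dif_neg (F.A.ne' hxy), F.blk_eq_iff]
        exact hxy
    have h1 := hbij.ncard_eq
    rw [Set.ncard_univ, F.card_Bl, Set.ncard_sdiff_singleton_of_mem haF] at h1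
    have : 0 < Fs.ncard := (Set.ncard_pos (Set.toFinite _)).2 ⟨_, haF⟩
    omega
  -- the normaliser acting on the fixed points
  let N : Subgroup G :=
    { carrier := {x | (∀ h ∈ F.H, x⁻¹ * h * x ∈ F.H) ∧ ∀ h ∈ F.H, x * h * x⁻¹ ∈ F.H}
      one_mem' := ⟨fun h hh => by rwa [inv_one, one_mul, mul_one],
        fun h hh => by rwa [one_mul, inv_one, mul_one]⟩
      mul_mem' := fun {x y} hx hy => ⟨fun h hh => by
          rw [show (x * y)⁻¹ * h * (x * y) = y⁻¹ * (x⁻¹ * h * x) * y by group]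
          exact hy.1 _ (hx.1 h hh), fun h hh => by
          rw [show (x * y) * h * (x * y)⁻¹ = x * (y * h * y⁻¹) * x⁻¹ by group]
          exact hx.2 _ (hy.2 h hh)⟩
      inv_mem' := fun {x} hx => ⟨fun h hh => by simpa using hx.2 h hh,
        fun h hh => by simpa using hx.1 h hh⟩ }
  have hNF : ∀ x ∈ N, ∀ z ∈ Fs, x • z ∈ Fs := by
    intro x hx z hz h hh
    have := hz _ (hx.1 h hh)
    rw [mul_smul, mul_smul, inv_smul_eq_iff] at this
    exact this
  have hmemN : ∀ x : G, (x • F.a ∈ Fs) → (x • F.b ∈ Fs) → x ∈ N := fun x h1 h2 =>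
    conj_H (F := F) (g := x) h1 h2
  let Pt : SubMulAction N Ω :=
    { carrier := Fs
      smul_mem' := fun x {z} hz => hNF x x.2 z hz }
  have hPtcard : Nat.card Pt = p + 1 := (Nat.card_coe_set_eq Fs).trans hFcard
  let θ : N →* Equiv.Perm Pt := MulAction.toPermHom N Pt
  let T : Subgroup (Equiv.Perm Pt) := θ.range
  have hlift : ∀ x y : Pt, x ≠ y → ∃ n : N,
      n • (⟨F.a, haF⟩ : Pt) = x ∧ n • (⟨F.b, hbF⟩ : Pt) = y := by
    intro x y hxy
    obtain ⟨n, hn1, hn2⟩ := is_two_pretransitive_iff.1 F.h2 F.hab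
      (show (x : Ω) ≠ y from fun h => hxy (Subtype.ext h))
    exact ⟨⟨n, hmemN n (by rw [hn1]; exact x.2) (by rw [hn2]; exact y.2)⟩,
      Subtype.ext hn1, Subtype.ext hn2⟩
  have hT2 : IsMultiplyPretransitive T Pt 2 := by
    rw [is_two_pretransitive_iff]
    intro x y z w hxy hzw
    obtain ⟨n1, h11, h12⟩ := hlift x y hxy
    obtain ⟨n2, h21, h22⟩ := hlift z w hzw
    exact ⟨⟨_, n2 * n1⁻¹, rfl⟩,
      show (n2 * n1⁻¹) • x = z by rw [← h11, mul_smul, inv_smul_smul, h21],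
      show (n2 * n1⁻¹) • y = w by rw [← h12, mul_smul, inv_smul_smul, h22]⟩
  have hTsharp : ∀ x : Fin 2 ↪ Pt, stabilizer T x = ⊥ := by
    intro x
    refine (Cfsg.Agent.Perm.Sharp.stabilizer_embedding_eq_bot_iff x).2 ?_
    rintro ⟨_, n, rfl⟩ hn
    obtain ⟨m, hm0, hm1⟩ := hlift (x 0) (x 1) fun h => by
      have := x.injective h
      simp at this
    have hn0 : n • x 0 = x 0 := hn 0
    have hn1 : n • x 1 = x 1 := hn 1
    rw [← hm0, ← mul_smul, ← inv_smul_eq_iff, ← mul_smul] at hn0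
    rw [← hm1, ← mul_smul, ← inv_smul_eq_iff, ← mul_smul] at hn1
    have hH : ((m⁻¹ * (n * m) : N) : G) ∈ F.H :=
      F.mem_H.2 ⟨congrArg Subtype.val hn0, congrArg Subtype.val hn1⟩
    refine Subtype.ext (Equiv.ext fun z => ?_)
    show n • z = z
    have h1 : (m⁻¹ * (n * m)) • (m⁻¹ • z) = m⁻¹ • z := Subtype.ext ((m⁻¹ • z).2 _ hH)
    rwa [mul_smul, mul_smul, smul_inv_smul, smul_left_cancel_iff] at h1
  have : Nontrivial Pt := ⟨⟨⟨F.a, haF⟩, ⟨F.b, hbF⟩, fun h => F.hab (congrArg Subtype.val h)⟩⟩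
  obtain ⟨Nk, hNkn, -, hNktr, hNkreg, hNkmem, -⟩ :=
    Cfsg.Agent.Perm.Sharp.exists_kernel hT2 hTsharp
  let S : Subgroup N := Nk.comap θ.rangeRestrict
  have hSn : S.Normal := Subgroup.Normal.comap hNkn _
  have hSp : ¬ p ∣ Nat.card S := by
    intro hdvd
    obtain ⟨x, hx⟩ := exists_prime_orderOf_dvd_card' p hdvd
    set y : Nk := ⟨θ.rangeRestrict (x : N), x.2⟩ with hy
    have hyp : y ^ p = 1 := by
      apply Subtype.ext
      rw [Subgroup.coe_pow, hy, ← map_pow, ← Subgroup.coe_pow, ← hx, pow_orderOf_eq_one,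
        Subgroup.coe_one, map_one]
      rfl
    have hNkcard : Nat.card Nk = p + 1 := by
      rw [Cfsg.Agent.Perm.Basic.card_eq_of_regular Nk hNktr hNkreg ⟨F.a, haF⟩, hPtcard]
    have hy1 : orderOf y = 1 := Nat.dvd_one.1 <| by
      have h1 := orderOf_dvd_of_pow_eq_one hyp
      have h2 : orderOf y ∣ p + 1 := hNkcard ▸ orderOf_dvd_natCard y
      exact (Nat.dvd_add_right h1).1 h2
    rw [orderOf_eq_one_iff] at hy1
    have hθ : θ (x : N) = 1 := congrArg Subtype.val (congrArg Subtype.val hy1)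
    have hxH : ((x : N) : G) ∈ F.H := F.mem_H.2
      ⟨congrArg Subtype.val (DFunLike.congr_fun hθ (⟨F.a, haF⟩ : Pt)),
       congrArg Subtype.val (DFunLike.congr_fun hθ (⟨F.b, hbF⟩ : Pt))⟩
    have h1 : orderOf (⟨((x : N) : G), hxH⟩ : F.H) = p :=
      (Subgroup.orderOf_coe _).symm.trans
        ((Subgroup.orderOf_coe (x : N)).trans ((Subgroup.orderOf_coe x).trans hx))
    exact hR.notDvd (h1.symm.dvd.trans (orderOf_dvd_natCard _))
  have hHS : ∀ h (hh : h ∈ F.H), (⟨h, hmemN h (by rw [(F.mem_H.1 hh).1]; exact haF)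
      (by rw [(F.mem_H.1 hh).2]; exact hbF)⟩ : N) ∈ S := by
    intro h hh
    show θ.rangeRestrict _ ∈ Nk
    rw [hNkmem]
    left
    exact Subtype.ext (Equiv.ext fun z => Subtype.ext (z.2 h hh))
  have hsN : s ∈ N := hmemN s (by rw [hs]; exact hbF) (by rw [hs']; exact haF)
  have hsS : (⟨s, hsN⟩ : N) ∈ S := by
    show θ.rangeRestrict _ ∈ Nk
    rw [hNkmem]
    set t : T := θ.rangeRestrict ⟨s, hsN⟩ with ht
    have ht2 : t ^ 2 = 1 := by
      rw [ht, ← map_pow]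
      refine Subtype.ext (Equiv.ext fun z => Subtype.ext ?_)
      show (s ^ 2) • (z : Ω) = z
      exact z.2 _ (F.mem_H.2 ⟨by rw [sq, mul_smul, hs, hs'], by rw [sq, mul_smul, hs', hs]⟩)
    right
    intro z hz
    have h1 : (⟨t, hz⟩ : stabilizer T z) ^ p = 1 := by
      have hc := Cfsg.Agent.Perm.Sharp.card_stabilizer hT2 hTsharp z
      rw [hPtcard, Nat.add_sub_cancel] at hc
      conv_lhs => rw [← hc]
      exact pow_card_eq_one'
    have h2 : t ^ p = 1 := congrArg Subtype.val h1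
    have h3 : t = 1 := by
      obtain ⟨k, hk⟩ := hp.odd_of_ne_two (by omega)
      rwa [hk, pow_succ, pow_mul, ht2, one_pow, one_mul] at h2
    have h4 : s • F.a = F.a := congrArg Subtype.val
      (DFunLike.congr_fun (congrArg Subtype.val h3 : θ ⟨s, hsN⟩ = 1) (⟨F.a, haF⟩ : Pt))
    exact F.hab (h4.symm.trans hs)
  -- the orbit of a point of `sec a b`
  obtain ⟨d, hd⟩ : (F.A.sec F.a F.b).Nonempty := Set.nonempty_of_ncard_ne_zero (by omega)
  have hdF : d ∉ Fs := fun h => hd.2 (hΔ d h hd.1)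
  set O : Set Ω := orbit S d with hO
  have hOFs : ∀ z ∈ O, z ∉ Fs := by
    rintro z ⟨x, rfl⟩ hz
    apply hdF
    have := hNF _ (inv_mem (x : N).2) _ hz
    rwa [show ((x : N) : G)⁻¹ • (x • d) = d from inv_smul_smul ((x : N) : G) d] at this
  have hHO : ∀ h ∈ F.H, ∀ z ∈ O, h • z ∈ O := by
    rintro h hh _ ⟨x, rfl⟩
    exact ⟨⟨_, hHS h hh⟩ * x, mul_smul _ _ _⟩
  have hsd : s • d ∈ O := ⟨⟨_, hsS⟩, rfl⟩
  have hsdE : s • d ∈ F.A.sec F.b F.a := by
    rw [← F.image_sec hs hs']; exact ⟨d, hd, rfl⟩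
  set z := s • d with hz
  have hza : z ≠ F.a := hsdE.2
  -- `H` is transitive on the non-fixed points of each class
  have hcls : ∀ x ∈ Fs, x ≠ F.a → ∀ u v, F.A.R F.a x u → F.A.R F.a x v → u ≠ x → v ≠ x →
      ∃ h ∈ F.H, h • u = v := by
    intro x hx hxa u v hu hv hux hvx
    obtain ⟨t, ht, htb⟩ := F.exists_Γ_smul F.hab.symm hxa
    have htc := conj_H (F := F) (g := t) (fun h hh => by rw [F.mem_Γ.1 ht]; exact haF h hh)
      (fun h hh => by rw [htb]; exact hx h hh)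
    have hmem : ∀ w, F.A.R F.a x w → w ≠ x → t⁻¹ • w ∈ F.A.sec F.a F.b := by
      intro w hw hwx
      refine ⟨?_, fun e => hwx ?_⟩
      · have := F.smul_R (inv_mem ht) hw
        rwa [← htb, inv_smul_smul] at this
      · rw [Set.mem_singleton_iff, inv_smul_eq_iff, htb] at e
        exact e
    obtain ⟨h, hh, hhu⟩ := hHW _ (hmem u hu hux) _ (hmem v hv hvx)
    exact ⟨t * h * t⁻¹, htc.2 h hh, by rw [mul_smul, mul_smul, hhu, smul_inv_smul]⟩
  -- an element of `N_a` stabilising the orbit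
  obtain ⟨x, hx, hxz⟩ := hfixcls z hza
  obtain ⟨k, hk, hkb⟩ := F.exists_Γ_smul F.hab.symm (F.A.ne' hxz)
  have hkN : k ∈ N := hmemN k (by rw [F.mem_Γ.1 hk]; exact haF) (by rw [hkb]; exact hx)
  have hkd : F.A.R F.a x (k • d) ∧ k • d ≠ x := by
    refine ⟨?_, fun e => hd.2 (MulAction.injective k (e.trans hkb.symm))⟩
    have := F.smul_R hk hd.1
    rwa [hkb] at this
  have hkO : ∀ w ∈ O, k • w ∈ O := by
    obtain ⟨h, hh, hhk⟩ := hcls x hx (F.A.ne' hxz) z (k • d) hxz hkd.1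
      (fun e => hOFs z hsd (e ▸ hx)) hkd.2
    have hkdO : k • d ∈ O := hhk ▸ hHO h hh z hsd
    rintro w ⟨y, rfl⟩
    obtain ⟨y', hy'⟩ := hkdO
    refine ⟨⟨_, hSn.conj_mem (y : N) y.2 ⟨k, hkN⟩⟩ * y', ?_⟩
    have hy'' : ((y' : N) : G) • d = k • d := hy'
    show ((k * ((y : N) : G) * k⁻¹) * ((y' : N) : G)) • d = k • ((y : N) : G) • d
    rw [mul_smul, hy'', mul_smul, mul_smul, inv_smul_smul]
  have hkpow : ∀ n : ℕ, k ^ n • d ∈ O := by
    intro n
    induction n with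
    | zero => rw [pow_zero, one_smul]; exact mem_orbit_self d
    | succ n ih => rw [pow_succ', mul_smul]; exact hkO _ ih
  have hkK : k ∉ F.K := fun h => by
    have h1 := h.2 F.b F.hab.symm
    rw [hkb] at h1
    exact (hE _ hsdE _ hsdE).2 (F.A.trans' h1 hxz)
  have hall : Fsᶜ ⊆ O := by
    intro w hw
    have hwa : w ≠ F.a := fun e => hw (e ▸ haF)
    obtain ⟨u, hu, hub⟩ := F.exists_Γ_smul F.hab.symm hwa
    have hne : (⟨ψ ⟨k, hk⟩, _, rfl⟩ : ψ.range) ≠ 1 := fun h => hkK <| by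
      have h1 : ψ ⟨k, hk⟩ = 1 := congrArg Subtype.val h
      exact (F.smul_bl_eq_iff_mem_K ⟨k, hk⟩).1 fun S => DFunLike.congr_fun h1 S
    have hmem : (⟨ψ ⟨u, hu⟩, _, rfl⟩ : ψ.range) ∈
        Subgroup.zpowers (⟨ψ ⟨k, hk⟩, _, rfl⟩ : ψ.range) := by
      rw [zpowers_eq_top_of_prime_card hrange hne]; exact Subgroup.mem_top _
    rw [← mem_powers_iff_mem_zpowers, Submonoid.mem_powers_iff] at hmem
    obtain ⟨n, hn⟩ := hmem
    have hn' : ψ (⟨k, hk⟩ ^ n) = ψ ⟨u, hu⟩ := by rw [map_pow]; exact congrArg Subtype.val hn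
    have hblk : (⟨k, hk⟩ : F.Γ) ^ n • F.blk F.b F.hab.symm =
        (⟨u, hu⟩ : F.Γ) • F.blk F.b F.hab.symm := DFunLike.congr_fun hn' _
    rw [F.smul_blk, F.smul_blk, F.blk_eq_iff] at hblk
    have hkn : F.A.R F.a (k ^ n • F.b) w := by rw [← hub]; exact hblk
    have hbn : k ^ n • F.b ∈ Fs := hNF _ (pow_mem hkN n) _ hbF
    have hdn : F.A.R F.a (k ^ n • F.b) (k ^ n • d) := F.smul_R (pow_mem hk n) hd.1
    obtain ⟨h, hh, rfl⟩ := hcls _ hbn (F.A.ne' hkn) (k ^ n • d) w hdn hkn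
      (fun e => hd.2 (MulAction.injective _ e)) (fun e => hw (e ▸ hbn))
    exact hHO h hh _ (hkpow n)
  have hOeq : O = Fsᶜ := Set.Subset.antisymm (fun w hw => hOFs w hw) hall
  have hdiv : O.ncard ∣ Nat.card S := by
    rw [hO, ← index_stabilizer]
    exact Subgroup.index_dvd_card _
  rw [hOeq, Set.ncard_compl, hFcard, F.hn] at hdiv
  refine hSp (dvd_trans ?_ hdiv)
  exact ⟨p - 1, by rw [Nat.mul_sub_one, ← sq]; omega⟩

end Frame

end Cfsg.Agent.Perm.SquarePlusOne
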