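import Cfsg.Agent.Lib.Perm.SquarePlusOne.Blocks

/-! A Sylow `p`-subgroup `U` of `G_a`: it is regular of order `p ^ 2` on the other points. -/

set_option autoImplicit false

namespace Cfsg.Agent.Perm.SquarePlusOne

open MulAction

namespace Frame

variable {G Ω : Type*} [Group G] [MulAction G Ω] {p : ℕ} (F : Frame G Ω p)

theorem exists_sylow [Finite G] [Finite Ω] [Fact p.Prime] :
    ∃ U : Subgroup G, U ≤ F.Γ ∧ IsPGroup p U ∧
      (∀ y, y ≠ F.a → ∃ u ∈ U, u • F.b = y) ∧
      Nat.card U = p ^ 2 * Nat.card (U ⊓ F.H : Subgroup G) ∧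
      Nat.card (U ⊓ F.H : Subgroup G) = p ^ (Nat.card F.H).factorization p := by
  obtain ⟨S⟩ : Nonempty (Sylow p F.Γ) := inferInstance
  let U : Subgroup G := (S : Subgroup F.Γ).map F.Γ.subtype
  have hle : U ≤ F.Γ := Subgroup.map_subtype_le _
  have hcardU : Nat.card U = Nat.card (S : Subgroup F.Γ) :=
    Subgroup.card_map_of_injective F.Γ.subtype_injective
  have : IsPretransitive F.Γ (SubMulAction.ofStabilizer G F.a) := ⟨fun x y => by
    obtain ⟨g, hg, hxy⟩ := F.exists_Γ_smul x.2 y.2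
    exact ⟨⟨g, hg⟩, Subtype.ext hxy⟩⟩
  have htr := Cfsg.Agent.Perm.Basic.sylow_isPretransitive (G := F.Γ)
    (α := SubMulAction.ofStabilizer G F.a) (p := p) (f := 2)
    (by rw [SubMulAction.nat_card_ofStabilizer_eq, F.hn, Nat.add_sub_cancel]) S
  have htrans : ∀ y, y ≠ F.a → ∃ u ∈ U, u • F.b = y := by
    intro y hy
    obtain ⟨u, hu⟩ := htr.exists_smul_eq ⟨F.b, F.hab.symm⟩ ⟨y, hy⟩
    exact ⟨_, Subgroup.mem_map_of_mem _ u.2, congrArg Subtype.val hu⟩
  have horb : orbit U F.b = {F.a}ᶜ := by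
    ext y
    constructor
    · rintro ⟨u, rfl⟩
      exact F.smul_ne (hle u.2) F.hab.symm
    · intro hy
      obtain ⟨u, hu, rfl⟩ := htrans y hy
      exact ⟨⟨u, hu⟩, rfl⟩
  have hUH : Nat.card U = p ^ 2 * Nat.card (U ⊓ F.H : Subgroup G) := by
    rw [← (stabilizer U F.b).index_mul_card, index_stabilizer, horb, F.ncard_compl]
    congr 1
    exact Nat.card_congr
      { toFun := fun g => ⟨g.1.1, g.1.2, hle g.1.2, g.2⟩
        invFun := fun g => ⟨⟨g.1, g.2.1⟩, g.2.2.2⟩
        left_inv := fun _ => rfl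
        right_inv := fun _ => rfl }
  refine ⟨U, hle, S.2.map _, htrans, hUH, ?_⟩
  have hp := (Fact.out : p.Prime)
  have h1 : Nat.card U = p ^ 2 * p ^ (Nat.card F.H).factorization p := by
    rw [hcardU, S.card_eq_multiplicity, F.card_Γ, Nat.factorization_mul (pow_pos hp.pos 2).ne'
      Nat.card_pos.ne', Finsupp.add_apply, hp.factorization_pow, Finsupp.single_eq_same, pow_add]
  exact Nat.eq_of_mul_eq_mul_left (pow_pos hp.pos 2) (hUH.symm.trans h1)

variable {F} in
/-- The kernel part of `U` has index `p`. -/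
theorem card_inf_K [Finite G] [Finite Ω] [Fact p.Prime] {U : Subgroup G} (hle : U ≤ F.Γ)
    (hU : IsPGroup p U) (htr : ∀ y, y ≠ F.a → ∃ u ∈ U, u • F.b = y) :
    Nat.card U = p * Nat.card (U ⊓ F.K : Subgroup G) := by
  have hp := (Fact.out : p.Prime)
  let ψ : U →* Equiv.Perm F.Bl := (MulAction.toPermHom F.Γ F.Bl).comp (Subgroup.inclusion hle)
  have hker : Nat.card ψ.ker = Nat.card (U ⊓ F.K : Subgroup G) :=
    Nat.card_congr
      { toFun := fun g => ⟨g.1.1, g.1.2, (F.smul_bl_eq_iff_mem_K ⟨g.1.1, hle g.1.2⟩).1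
          fun S => DFunLike.congr_fun (g.2 : ψ g.1 = 1) S⟩
        invFun := fun g => ⟨⟨g.1, g.2.1⟩, Equiv.ext fun S =>
          (F.smul_bl_eq_iff_mem_K ⟨g.1, hle g.2.1⟩).2 g.2.2 S⟩
        left_inv := fun _ => rfl
        right_inv := fun _ => rfl }
  have hrange : Nat.card ψ.range = p := by
    have hpg : IsPGroup p ψ.range := IsPGroup.of_surjective hU _ ψ.rangeRestrict_surjective
    obtain ⟨n, hn⟩ := IsPGroup.iff_card.1 hpg
    have hdvd : p ^ n ∣ p.factorial := by
      have hperm : Nat.card (Equiv.Perm F.Bl) = p.factorial := by rw [Nat.card_perm, F.card_Bl]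
      rw [← hn, ← hperm]
      exact Subgroup.card_subgroup_dvd_card _
    have hn1 : n ≤ 1 := by
      by_contra hcon
      have h2 : p ^ 2 ∣ p * (p - 1).factorial := by
        rw [Nat.mul_factorial_pred hp.pos.ne']
        exact (pow_dvd_pow p (show 2 ≤ n by omega)).trans hdvd
      rw [sq] at h2
      have := hp.dvd_factorial.1 (Nat.dvd_of_mul_dvd_mul_left hp.pos h2)
      have := hp.pos
      omega
    have hne : n ≠ 0 := by
      rintro rfl
      rw [pow_zero] at hn
      have hbot := Subgroup.card_eq_one.1 hn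
      have hsub : ∀ S : F.Bl, S = F.blk F.b F.hab.symm := by
        intro S
        obtain ⟨y, hy, rfl⟩ := F.exists_blk S
        obtain ⟨u, hu, rfl⟩ := htr y hy
        have h1 : ψ ⟨u, hu⟩ = 1 := by
          have : ψ ⟨u, hu⟩ ∈ ψ.range := ⟨_, rfl⟩
          rwa [hbot, Subgroup.mem_bot] at this
        rw [← F.smul_blk ⟨u, hle hu⟩ F.hab.symm]
        exact DFunLike.congr_fun h1 (F.blk F.b F.hab.symm)
      have hsing : Subsingleton F.Bl := ⟨fun S T => (hsub S).trans (hsub T).symm⟩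
      have := Finite.card_le_one_iff_subsingleton.2 hsing
      rw [F.card_Bl] at this
      have := hp.two_le
      omega
    rw [hn, show n = 1 by omega, pow_one]
  rw [← ψ.ker.index_mul_card, Subgroup.index_ker, hrange, hker]

variable {F} in
/-- The kernel part of `U` is transitive on each class seen from `a`. -/
theorem exists_inf_K_smul [Finite G] [Finite Ω] [FaithfulSMul G Ω] [Fact p.Prime] {U : Subgroup G}
    (hle : U ≤ F.Γ) (hU : IsPGroup p U) (htr : ∀ y, y ≠ F.a → ∃ u ∈ U, u • F.b = y)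
    (hbig : p ^ 2 ∣ Nat.card U) {y z : Ω} (hz : F.A.R F.a y z) :
    ∃ x ∈ U ⊓ F.K, x • y = z := by
  have hp := (Fact.out : p.Prime)
  set P : Subgroup G := U ⊓ F.K with hP
  have hPp : IsPGroup p P := hU.to_le inf_le_left
  have hPdvd : p ∣ Nat.card P := by
    rw [card_inf_K hle hU htr, sq] at hbig
    exact Nat.dvd_of_mul_dvd_mul_left hp.pos hbig
  have hy := F.A.ne' hz
  by_contra hcon
  have hsub : orbit P y ⊆ F.A.cls F.a y \ {z} := by
    rintro _ ⟨x, rfl⟩
    exact ⟨F.K_stable x.2.2 (F.A.refl' hy), fun e => hcon ⟨x.1, x.2, e⟩⟩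
  obtain ⟨n, hn⟩ := hPp.card_orbit (α := Ω) y
  rw [Nat.card_coe_set_eq] at hn
  have hle' : (orbit P y).ncard ≤ p - 1 := by
    refine (Set.ncard_le_ncard hsub (Set.toFinite _)).trans ?_
    rw [Set.ncard_sdiff_singleton_of_mem (show z ∈ F.A.cls F.a y from hz)]
    exact le_of_eq (congrArg (· - 1) (F.A.card' hy))
  have hn0 : n = 0 := by
    by_contra hn0
    have := Nat.le_self_pow hn0 p
    have := hp.pos
    omega
  rw [hn0, pow_zero] at hn
  obtain ⟨w, hw⟩ := Set.ncard_eq_one.1 hn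
  have hyfix : ∀ x ∈ P, x • y = y := by
    intro x hx
    have h1 : x • y ∈ orbit P y := ⟨⟨x, hx⟩, rfl⟩
    have h2 : y ∈ orbit P y := mem_orbit_self y
    rw [hw] at h1 h2
    exact h1.trans h2.symm
  obtain ⟨v, hv, hvy⟩ := htr y hy
  have hall : ∀ x ∈ P, x = 1 := by
    intro x hx
    refine eq_of_smul_eq_smul (α := Ω) fun w => ?_
    rw [one_smul]
    by_cases hwa : w = F.a
    · rw [hwa]; exact hx.2.1
    obtain ⟨u, hu, rfl⟩ := htr w hwa
    set c : G := u * v⁻¹ with hc
    have hcU : c ∈ U := mul_mem hu (inv_mem hv)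
    have hcy : c • y = u • F.b := by rw [hc, mul_smul, ← hvy, inv_smul_smul]
    have hconj : c⁻¹ * x * c ∈ P := by
      refine Subgroup.mem_inf.2 ⟨mul_mem (mul_mem (inv_mem hcU) hx.1) hcU, ?_⟩
      have := F.conj_mem_K (inv_mem (hle hcU)) hx.2
      rwa [inv_inv] at this
    have := hyfix _ hconj
    rw [mul_smul, mul_smul, inv_smul_eq_iff, hcy] at this
    exact this
  rw [(Subgroup.eq_bot_iff_forall _).2 hall, Subgroup.card_bot] at hPdvd
  exact hp.ne_one (Nat.dvd_one.1 hPdvd)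

/-- The order of the two-point stabiliser is prime to `p`. -/
theorem not_dvd_card_H [Finite G] [Finite Ω] [FaithfulSMul G Ω] [Fact p.Prime] :
    ¬ p ∣ Nat.card F.H := by
  classical
  intro hdvd
  have hp := (Fact.out : p.Prime)
  obtain ⟨U, hle, hU, htr, hcard, hQcard⟩ := F.exists_sylow
  set Q : Subgroup G := U ⊓ F.H with hQ
  set P : Subgroup G := U ⊓ F.K with hP
  have hQp : IsPGroup p Q := hU.to_le inf_le_left
  have hQne : Q ≠ ⊥ := by
    intro h
    rw [h, Subgroup.card_bot] at hQcard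
    have h1 := hp.factorization_pos_of_dvd Nat.card_pos.ne' hdvd
    have h2 := Nat.one_lt_pow h1.ne' hp.one_lt
    omega
  have hPcard : Nat.card P = p * Nat.card Q := by
    have := card_inf_K hle hU htr
    rw [hcard, ← hP] at this
    refine (Nat.eq_of_mul_eq_mul_left hp.pos ?_).symm
    rw [← this]
    ring
  have hbig : p ^ 2 ∣ Nat.card U := by rw [hcard]; exact Dvd.intro _ rfl
  -- `Q` fixes the class of `b` pointwise and lies in `K`
  have hQΔ : ∀ q ∈ Q, ∀ x ∈ F.A.cls F.a F.b, q • x = x := by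
    intro q hq x hx
    refine fix_of_isPGroup hQp (F.A.cls F.a F.b) (Set.toFinite _) ?_
      (le_of_eq (F.A.card' F.hab.symm)) (F.A.refl' F.hab.symm) (fun g => g.2.2.2) ⟨q, hq⟩ x hx
    rintro ⟨g, hg⟩ z hz
    show g • z ∈ _
    have := F.smul_R (F.H_le hg.2) hz
    rwa [(F.mem_H.1 hg.2).2] at this
  have hQK : Q ≤ F.K := by
    intro q hq
    have hQΓ : Q ≤ F.Γ := inf_le_right.trans F.H_le
    let _ : MulAction Q F.Bl := MulAction.compHom F.Bl (Subgroup.inclusion hQΓ)
    have h := fix_of_isPGroup (α := F.Bl) hQp Set.univ (Set.toFinite _) (fun _ _ _ => Set.mem_univ _)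
      (by rw [Set.ncard_univ, F.card_Bl]) (b := F.blk F.b F.hab.symm) (Set.mem_univ _) (fun g => by
        show (Subgroup.inclusion hQΓ g : F.Γ) • F.blk F.b F.hab.symm = _
        rw [F.smul_blk, F.blk_eq_iff]
        have hgb : (g : G) • F.b = F.b := g.2.2.2
        show F.A.R F.a ((g : G) • F.b) F.b
        rw [hgb]
        exact F.A.refl' F.hab.symm) ⟨q, hq⟩
    exact (F.smul_bl_eq_iff_mem_K ⟨q, hQΓ hq⟩).1 fun S => h S (Set.mem_univ _)
  have hQP : Q ≤ P := le_inf inf_le_left hQK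
  -- point stabilisers in `P` have the order of `Q`
  have hstab : ∀ y, y ≠ F.a → Nat.card (stabilizer P y) = Nat.card Q := by
    intro y hy
    have horb : orbit P y = F.A.cls F.a y := by
      ext z
      constructor
      · rintro ⟨x, rfl⟩
        exact F.K_stable x.2.2 (F.A.refl' hy)
      · intro hz
        obtain ⟨x, hx, rfl⟩ := exists_inf_K_smul hle hU htr hbig hz
        exact ⟨⟨x, hx⟩, rfl⟩
    have h := (stabilizer P y).index_mul_card
    have hc : (F.A.cls F.a y).ncard = p := F.A.card' hy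
    rw [index_stabilizer, horb, hc, hPcard] at h
    exact Nat.eq_of_mul_eq_mul_left hp.pos h
  -- a point fixed by `Q` has `Q` as its stabiliser in `P`
  have hfixQ : ∀ y, y ≠ F.a → (∀ q ∈ Q, q • y = y) → ∀ x ∈ P, x • y = y → x ∈ Q := by
    intro y hy hfix x hx hxy
    have hle2 : Q.subgroupOf P ≤ stabilizer P y := fun q hq => hfix _ hq
    have hc : Nat.card (Q.subgroupOf P) = Nat.card Q :=
      Nat.card_congr (Subgroup.subgroupOfEquivOfLe hQP).toEquiv
    have heq := Subgroup.eq_of_le_of_card_ge hle2 (by rw [hstab y hy, hc])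
    have : (⟨x, hx⟩ : P) ∈ stabilizer P y := hxy
    rw [← heq] at this
    exact this
  have hfix : ∀ c, c ≠ F.a → (∀ q ∈ Q, q • c = c) → c ∈ F.A.cls F.a F.b := by
    intro c hc hfixc
    by_contra hcΔ
    obtain ⟨t, ht, rfl⟩ := htr c hc
    have hnorm : ∀ q ∈ Q, t⁻¹ * q * t ∈ Q := by
      intro q hq
      refine hfixQ F.b F.hab.symm (fun r hr => hr.2.2) _ ?_ ?_
      · refine Subgroup.mem_inf.2 ⟨mul_mem (mul_mem (inv_mem ht) hq.1) ht, ?_⟩
        have := F.conj_mem_K (inv_mem (hle ht)) (hQK hq)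
        rwa [inv_inv] at this
      · rw [mul_smul, mul_smul, hfixc q hq, inv_smul_smul]
    have hpow : ∀ (n : ℕ), ∀ q ∈ Q, q • t ^ n • F.b = t ^ n • F.b := by
      intro n
      induction n with
      | zero => intro q hq; rw [pow_zero, one_smul]; exact hq.2.2
      | succ n ih =>
        intro q hq
        rw [pow_succ', mul_smul]
        have := ih _ (hnorm q hq)
        rw [mul_smul, mul_smul, inv_smul_eq_iff] at this
        exact this
    -- the powers of `t` meet every class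
    let ψ : U →* Equiv.Perm F.Bl := (MulAction.toPermHom F.Γ F.Bl).comp (Subgroup.inclusion hle)
    have hrange : Nat.card ψ.range = p := by
      have h1 := ψ.ker.index_mul_card
      have h2 : Nat.card ψ.ker = Nat.card P := Nat.card_congr
        { toFun := fun g => ⟨g.1.1, g.1.2, (F.smul_bl_eq_iff_mem_K ⟨g.1.1, hle g.1.2⟩).1
            fun S => DFunLike.congr_fun (g.2 : ψ g.1 = 1) S⟩
          invFun := fun g => ⟨⟨g.1, g.2.1⟩, Equiv.ext fun S =>
            (F.smul_bl_eq_iff_mem_K ⟨g.1, hle g.2.1⟩).2 g.2.2 S⟩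
          left_inv := fun _ => rfl
          right_inv := fun _ => rfl }
      rw [Subgroup.index_ker, h2] at h1
      have h3 := card_inf_K hle hU htr
      rw [← hP] at h3
      exact Nat.eq_of_mul_eq_mul_right Nat.card_pos (h1.trans h3)
    have htne : (⟨ψ ⟨t, ht⟩, _, rfl⟩ : ψ.range) ≠ 1 := by
      intro h
      have h1 : ψ ⟨t, ht⟩ = 1 := congrArg Subtype.val h
      have h2 : (⟨t, hle ht⟩ : F.Γ) • F.blk F.b F.hab.symm = F.blk F.b F.hab.symm :=
        DFunLike.congr_fun h1 _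
      rw [F.smul_blk, F.blk_eq_iff] at h2
      exact hcΔ (F.A.symm' h2)
    have hgen := zpowers_eq_top_of_prime_card hrange htne
    have hQbot : ∀ q ∈ Q, q = 1 := by
      intro q hq
      refine eq_of_smul_eq_smul (α := Ω) fun w => ?_
      rw [one_smul]
      by_cases hwa : w = F.a
      · rw [hwa]; exact hq.2.1
      obtain ⟨u, hu, hub⟩ := htr w hwa
      have hmem : (⟨ψ ⟨u, hu⟩, _, rfl⟩ : ψ.range) ∈ Subgroup.zpowers (⟨ψ ⟨t, ht⟩, _, rfl⟩ : ψ.range) := by
        rw [hgen]; exact Subgroup.mem_top _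
      rw [← mem_powers_iff_mem_zpowers, Submonoid.mem_powers_iff] at hmem
      obtain ⟨n, hn⟩ := hmem
      have hn' : ψ (⟨t, ht⟩ ^ n) = ψ ⟨u, hu⟩ := by
        rw [map_pow]; exact congrArg Subtype.val hn
      have hblk : (⟨t ^ n, hle (pow_mem ht n)⟩ : F.Γ) • F.blk F.b F.hab.symm =
          (⟨u, hle hu⟩ : F.Γ) • F.blk F.b F.hab.symm := DFunLike.congr_fun hn' _
      rw [F.smul_blk, F.smul_blk, F.blk_eq_iff] at hblk
      have hne := F.smul_ne (hle (pow_mem ht n)) F.hab.symm
      refine fix_of_isPGroup hQp (F.A.cls F.a (t ^ n • F.b)) (Set.toFinite _) ?_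
        (le_of_eq (F.A.card' hne)) (F.A.refl' hne) (fun g => hpow n g g.2) ⟨q, hq⟩ w ?_
      · rintro ⟨g, hg⟩ z hz
        exact F.K_stable (hQK hg) hz
      · rw [← hub]; exact hblk
    exact hQne ((Subgroup.eq_bot_iff_forall _).2 hQbot)
  -- an element exchanging `a`, `b` and normalising `Q`
  obtain ⟨s, hs, hs'⟩ := F.exists_swap
  let Q' : Sylow p F.H := Sylow.ofCard (Q.subgroupOf F.H) (by
    rw [Nat.card_congr (Subgroup.subgroupOfEquivOfLe (inf_le_right : Q ≤ F.H)).toEquiv, hQcard])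
  let φ : Q →* F.H :=
    { toFun := fun q => ⟨s * q * s⁻¹, F.swap_conj hs hs' q.2.2⟩
      map_one' := Subtype.ext (by simp)
      map_mul' := fun x y => Subtype.ext (by simp [mul_assoc]) }
  have hφp : IsPGroup p φ.range := IsPGroup.of_surjective hQp _ φ.rangeRestrict_surjective
  obtain ⟨R, hR⟩ := hφp.exists_le_sylow
  obtain ⟨h, hh⟩ := MulAction.exists_smul_eq F.H R Q'
  have hconj : ∀ q ∈ Q, ((h : G) * s) * q * ((h : G) * s)⁻¹ ∈ Q := by
    intro q hq
    have h1 : h * φ ⟨q, hq⟩ * h⁻¹ ∈ (Q' : Subgroup F.H) := by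
      rw [← hh, Sylow.coe_subgroup_smul, Subgroup.mem_pointwise_smul_iff_inv_smul_mem]
      have : φ ⟨q, hq⟩ ∈ (R : Subgroup F.H) := hR ⟨_, rfl⟩
      simpa [MulAut.smul_def, mul_assoc] using this
    have h2 : ((h * φ ⟨q, hq⟩ * h⁻¹ : F.H) : G) ∈ Q := h1
    simpa [φ, mul_assoc] using h2
  set t : G := (h : G) * s with ht
  have hta : t • F.a = F.b := by rw [ht, mul_smul, hs, (F.mem_H.1 h.2).2]
  have htb : t • F.b = F.a := by rw [ht, mul_smul, hs', (F.mem_H.1 h.2).1]
  have hinv : ∀ q ∈ Q, t⁻¹ * q * t ∈ Q := by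
    intro q hq
    let f : Q → Q := fun r => ⟨t * r * t⁻¹, hconj r r.2⟩
    obtain ⟨r, hr⟩ := (Finite.injective_iff_surjective (f := f)).1 (fun x y hxy => by
      simpa [f] using congrArg Subtype.val hxy) ⟨q, hq⟩
    have hr' : t * r * t⁻¹ = q := congrArg Subtype.val hr
    rw [← hr']
    have : t⁻¹ * (t * (r : G) * t⁻¹) * t = r := by group
    rw [this]
    exact r.2
  refine F.not_mapsTo hta htb fun x hx => ?_
  refine hfix _ ?_ fun q hq => ?_
  · intro e
    rw [← htb] at e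
    exact hx.2 (MulAction.injective t e)
  · have := hQΔ _ (hinv q hq) x hx.1
    rw [mul_smul, mul_smul, inv_smul_eq_iff] at this
    exact this

end Frame

end Cfsg.Agent.Perm.SquarePlusOne
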